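import Groth.Agent.FibFlatMod.Constr
import Groth.Agent.AssDimLoci.Ring
import Groth.Agent.FibreLoc5.Smooth
import Groth.Agent.MorLib.UnramLocus
import Groth.Agent.CurveBC.Coh

/-!
# Loci of smooth, etale and unramified maps of fibres
-/

set_option autoImplicit false
set_option linter.style.haveILetI false
set_option linter.deprecated false
set_option backward.isDefEq.respectTransparency false
set_option backward.isDefEq.respectTransparency.types false

universe u

open CategoryTheory Limits AlgebraicGeometry Topology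

namespace Groth.Agent.FibFlatMod

theorem isFlatOverAt_structure_iff {X Y : Scheme.{u}} (f : X ⟶ Y) (x : X) :
    FlatMod.IsFlatOverAt f (Coh.structureModule X) x ↔ (f.stalkMap x).hom.Flat := by
  let e := KFlatLib.stalkUnitEquiv x
  letI := FlatMod.moduleStalkOver f (Coh.structureModule X) x
  letI : Algebra (Y.presheaf.stalk (f x)) (X.presheaf.stalk x) := (f.stalkMap x).hom.toAlgebra
  let l : X.presheaf.stalk x ≃ₗ[Y.presheaf.stalk (f x)] (Coh.structureModule X).presheaf.stalk x :=
    { e.toAddEquiv with map_smul' := fun r m => e.map_smul ((f.stalkMap x).hom r) m }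
  exact Module.Flat.equiv_iff l.symm

variable {X Y S : Scheme.{u}}

/-- The points of a fibre map at which it is flat. -/
theorem flat_fibre_iff (f : X ⟶ Y) (h : Y ⟶ S) (s : S) (w : ↥(pullback f (h.fiberι s))) :
    ((pullback.snd f (h.fiberι s)).stalkMap w).hom.Flat ↔
      QF f h (Coh.structureModule X) (pullback.fst f (h.fiberι s) w) := by
  rw [← qf_baseChange (IsPullback.of_hasPullback h (S.fromSpecResidueField s))
    (IsPullback.of_hasPullback f (h.fiberι s)) _ (QCoh.isQCoh_structureModule) w,
    qf_iff_of_isField _ _ _ _ (isField_stalk_generic (Subsingleton.elim _ _)),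
    ← isFlatOverAt_structure_iff]
  haveI : IsIso (SheafOfModules.pullbackObjUnitToUnit (pullback.fst f (h.fiberι s)).toRingCatSheafHom) :=
    inferInstance
  let θ : (Scheme.Modules.pullback (pullback.fst f (h.fiberι s))).obj (Coh.structureModule X) ≅
      Coh.structureModule _ :=
    asIso (SheafOfModules.pullbackObjUnitToUnit (pullback.fst f (h.fiberι s)).toRingCatSheafHom)
  exact ⟨GrFlat5.isFlatOverAt_of_iso _ θ.symm w, GrFlat5.isFlatOverAt_of_iso _ θ w⟩

variable (f : X ⟶ Y) (h : Y ⟶ S)

theorem fibre_point (s : S) (w : ↥(pullback f (h.fiberι s))) :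
    (f ≫ h) (pullback.fst f (h.fiberι s) w) = s := by
  rw [← Scheme.Hom.comp_apply, pullback.condition_assoc]
  have : h.fiberι s (pullback.snd f (h.fiberι s) w) ∈ Set.range (h.fiberι s) := ⟨_, rfl⟩
  rw [Scheme.Hom.range_fiberι] at this
  exact this

theorem exists_fibre_point (x : X) (s : S) (hx : (f ≫ h) x = s) :
    ∃ w, pullback.fst f (h.fiberι s) w = x := by
  obtain ⟨y, hy⟩ : f x ∈ Set.range (h.fiberι s) := by rw [Scheme.Hom.range_fiberι]; exact hx
  obtain ⟨w, hw, -⟩ := Scheme.Pullback.exists_preimage_pullback (f := f) (g := h.fiberι s) x y hy.symm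
  exact ⟨w, hw⟩

theorem forall_fibre_iff (P : X → Prop) (s : S) :
    (∀ w, P (pullback.fst f (h.fiberι s) w)) ↔ ∀ x, (f ≫ h) x = s → P x :=
  ⟨fun H x hx => (exists_fibre_point f h x s hx).elim fun w hw => hw ▸ H w,
    fun H w => H _ (fibre_point f h s w)⟩

theorem smooth_fibre_iff [LocallyOfFinitePresentation f] (s : S) :
    Smooth (pullback.snd f (h.fiberι s)) ↔
      ∀ x, (f ≫ h) x = s → QF f h (Coh.structureModule X) x ∧ FibreLoc5.SmFib f x := by
  rw [← forall_fibre_iff f h _ s, ← Scheme.Hom.smoothLocus_eq_top_iff, eq_top_iff]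
  have key : ∀ w, w ∈ (pullback.snd f (h.fiberι s)).smoothLocus ↔
      QF f h (Coh.structureModule X) (pullback.fst f (h.fiberι s) w) ∧
        FibreLoc5.SmFib f (pullback.fst f (h.fiberι s) w) := fun w => by
    haveI := FibreLoc5.lfp_fibre (pullback.snd f (h.fiberι s)) ((pullback.snd f (h.fiberι s)) w)
    rw [S2156.result (pullback.snd f (h.fiberι s)) w, ← flat_fibre_iff,
      ← FibreLoc5.good_SmFib.baseChange f _ _ _ (IsPullback.of_hasPullback f (h.fiberι s)) inferInstance w]
    exact Iff.rfl
  exact ⟨fun H w => (key w).1 (H trivial), fun H w _ => (key w).2 (H w)⟩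

theorem formallyUnramified_iff_loc {X Y : Scheme.{u}} (f : X ⟶ Y) :
    FormallyUnramified f ↔ ∀ x, MorLib.UnrLocus.Loc f x := by
  refine ⟨fun hf x => ⟨⊤, trivial, MorphismProperty.comp_mem @FormallyUnramified _ _ inferInstance hf⟩, fun H => ?_⟩
  choose U hU hUf using H
  exact (IsZariskiLocalAtSource.iff_of_iSup_eq_top (P := @FormallyUnramified) U
    (top_le_iff.1 fun x _ => TopologicalSpace.Opens.mem_iSup.2 ⟨x, hU x⟩)).2 hUf

theorem unramified_fibre_iff [LocallyOfFiniteType f] (s : S) :
    FormallyUnramified (pullback.snd f (h.fiberι s)) ↔ ∀ x, (f ≫ h) x = s → MorLib.UnrLocus.Loc f x := by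
  rw [← forall_fibre_iff f h _ s, formallyUnramified_iff_loc]
  exact forall_congr' fun w => MorLib.UnrLocus.loc_pullback f (h.fiberι s) w

theorem etale_fibre_iff [LocallyOfFinitePresentation f] (s : S) :
    Etale (pullback.snd f (h.fiberι s)) ↔
      ∀ x, (f ≫ h) x = s → QF f h (Coh.structureModule X) x ∧ MorLib.UnrLocus.Loc f x := by
  constructor
  · intro H x hx
    obtain ⟨w, hw⟩ := exists_fibre_point f h x s hx
    exact ⟨hw ▸ (flat_fibre_iff f h s w).1 (Flat.stalkMap _ w), (unramified_fibre_iff f h s).1 inferInstance x hx⟩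
  · intro H
    haveI := (unramified_fibre_iff f h s).2 fun x hx => (H x hx).2
    haveI : Flat (pullback.snd f (h.fiberι s)) :=
      Flat.of_stalkMap _ fun w => (flat_fibre_iff f h s w).2 (H _ (fibre_point f h s w)).1
    exact Etale.of_formallyUnramified_of_flat _

/-- The base points over which a locally constructible property holds everywhere. -/
theorem isLocallyConstructible_forall (u : X ⟶ S) [LocallyOfFinitePresentation u] [QuasiCompact u]
    [QuasiSeparated u] {P : X → Prop} (hP : IsLocallyConstructible {x | P x}) :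
    IsLocallyConstructible {s : S | ∀ x, u x = s → P x} := by
  convert FibreLoc5.lc_compl (u.isLocallyConstructible_image (FibreLoc5.lc_compl hP)) using 1
  ext s
  simp only [Set.mem_setOf_eq, Set.mem_compl_iff, Set.mem_image, not_exists, not_and]
  exact ⟨fun h x hx hxs => hx (h x hxs), fun h x hxs => by_contra fun hx => h x hx hxs⟩

end Groth.Agent.FibFlatMod

namespace Groth.Agent.FibFlatMod

theorem good_loc : FibreLoc5.Good.{u} (fun ⦃X Y⦄ (f : X ⟶ Y) x => MorLib.UnrLocus.Loc f x) where
  baseChange X Y X' Y' f p q g hsq _ z := by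
    have h2 := MorLib.UnrLocus.loc_comp_left hsq.isoPullback.hom (pullback.snd f g) z
    rw [IsPullback.isoPullback_hom_snd] at h2
    rw [h2, MorLib.UnrLocus.loc_pullback, ← Scheme.Hom.comp_apply, IsPullback.isoPullback_hom_fst]
  source U X Y j f _ u := MorLib.UnrLocus.loc_comp_left j f u
  isOpen X Y f _ := (FlatLocus.isOpen_flat_locus f).inter
    (isOpen_iff_forall_mem_open.2 fun x ⟨U, hx, hU⟩ => ⟨U, fun z hz => ⟨U, hz, hU⟩, U.2, hx⟩)

end Groth.Agent.FibFlatMod
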