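import Groth.Agent.FibFlatMod.Fibre
import Groth.Agent.ConsPropLib.LociMod
import Groth.Agent.FibreLoc5.Constr
import Groth.Agent.S4863
import Groth.Agent.S4698

/-!
# Constructibility of the locus of flatness of a module along the fibres
-/

set_option autoImplicit false
set_option linter.style.haveILetI false
set_option backward.isDefEq.respectTransparency false
set_option backward.isDefEq.respectTransparency.types false

universe u

open CategoryTheory Limits AlgebraicGeometry Topology Groth.Agent.SpecLib Groth.Agent.EGA41Lib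

namespace Groth.Agent.FibFlatMod

open Groth.Agent.ConsPropLib

/-- A morphism of schemes of finite presentation over an affine scheme, with a module of finite presentation,
comes from a noetherian scheme. -/
theorem exists_model_mor_mod {S X Y : Scheme.{u}} [IsAffine S] (f : X ⟶ Y) (g : Y ⟶ S)
    [LocallyOfFinitePresentation g] [QuasiCompact g] [QuasiSeparated g]
    [LocallyOfFinitePresentation (f ≫ g)] [QuasiCompact (f ≫ g)] [QuasiSeparated (f ≫ g)]
    (F : X.Modules) (hF : CohB1.IsFP F) :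
    ∃ (S₀ X₀ Y₀ : Scheme.{u}) (π : S ⟶ S₀) (f₀ : X₀ ⟶ Y₀) (g₀ : Y₀ ⟶ S₀) (qX : X ⟶ X₀) (qY : Y ⟶ Y₀)
      (F₀ : X₀.Modules), IsNoetherian S₀ ∧ IsAffine S₀ ∧ LocallyOfFiniteType g₀ ∧
      LocallyOfFiniteType (f₀ ≫ g₀) ∧ QuasiCompact (f₀ ≫ g₀) ∧
      IsPullback qY g g₀ π ∧ IsPullback qX f f₀ qY ∧ CohB1.IsFP F₀ ∧
      Nonempty (F ≅ (Scheme.Modules.pullback qX).obj F₀) := by
  obtain ⟨I, _, _, D, c, hc, e, hA, hN⟩ := exists_noetherian_limit S
  haveI := hA
  haveI : ∀ {i j : I} (f : i ⟶ j), IsAffineHom (D.map f) := fun f => isAffineHom_of_isAffine _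
  haveI : ∀ (i j : I) (f : i ⟶ j), IsAffineHom (D.map f) := fun i j f => isAffineHom_of_isAffine _
  obtain ⟨i, X₁, u₁, g₁, hX₀⟩ := hasModel hc ((f ≫ g) ≫ e.inv)
  obtain ⟨j, Y₁, v₁, h₁, hY₀⟩ := hasModel hc (g ≫ e.inv)
  obtain ⟨k, φ, ψ, -⟩ := IsCofilteredOrEmpty.cone_objs i j
  have hX := hX₀.pushed φ
  have hY := hY₀.pushed ψ
  haveI := hX.lfp; haveI := hY.lfp
  haveI := hX.compactSpace; haveI := hY.compactSpace
  haveI := hX.quasiSeparatedSpace; haveI := hY.quasiSeparatedSpace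
  obtain ⟨l, χ, fl, sX, sY, hfl, hA1, hA2, hB1, hB2, hs⟩ :=
    Groth.Agent.S9218.result D c hc k _ _ _ _ hX.sq _ _ hY.sq f (Category.assoc _ _ _).symm
  have mX := hX.pushed χ
  have mY := hY.pushed χ
  have eX : sX = hX.push χ := pullback.hom_ext (hA1.trans (hX.push_fst χ).symm) (hA2.trans (hX.push_snd χ).symm)
  have eY : sY = hY.push χ := pullback.hom_ext (hB1.trans (hY.push_fst χ).symm) (hB2.trans (hY.push_snd χ).symm)
  subst eX eY
  haveI := mX.lfp; haveI := mY.lfp; haveI := mX.qc; haveI := mX.qs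
  haveI := mX.compactSpace; haveI := mX.quasiSeparatedSpace
  let xl := pullback.snd (pullback.snd u₁ (D.map φ)) (D.map χ)
  let yl := pullback.snd (pullback.snd v₁ (D.map ψ)) (D.map χ)
  haveI : ∀ (a b : Over l) (t : a ⟶ b), IsAffineHom ((MorLib.BC.diag D xl).map t) := fun a b t => inferInstance
  let o : Over l := Over.mk (𝟙 l)
  haveI : CompactSpace ((MorLib.BC.diag D xl).obj o) := MorLib.BC.compactSpace_obj D xl o
  haveI : QuasiSeparatedSpace ((MorLib.BC.diag D xl).obj o) := MorLib.BC.quasiSeparatedSpace_obj D xl o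
  obtain ⟨m, -, Fm, hFm, ⟨θ⟩⟩ := LimMod.exists_module_descend (MorLib.BC.diag D xl)
    (MorLib.BC.cone D xl mX.sq) (MorLib.BC.isLimitCone D xl mX.sq hc) (i := o) (F := F) hF
  let fm : pullback xl (D.map m.hom) ⟶ pullback yl (D.map m.hom) :=
    pullback.map _ _ _ _ fl (𝟙 _) (𝟙 _) (by simpa [xl, yl] using hfl.symm) (by simp)
  have hm1 : fm ≫ pullback.snd yl (D.map m.hom) = pullback.snd xl (D.map m.hom) :=
    (pullback.lift_snd _ _ _).trans (Category.comp_id _)
  have hm2 : fm ≫ pullback.fst yl (D.map m.hom) = pullback.fst xl (D.map m.hom) ≫ fl :=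
    pullback.lift_fst _ _ _
  let qX := MorLib.BC.proj D xl mX.sq m
  let qY := MorLib.BC.proj D yl mY.sq m
  have hq : qX ≫ fm = f ≫ qY := by
    refine pullback.hom_ext ?_ ?_
    · rw [Category.assoc qX, hm2, MorLib.BC.proj_fst_assoc, Category.assoc f qY, MorLib.BC.proj_fst]
      exact hs
    · rw [Category.assoc qX, hm1, MorLib.BC.proj_snd, Category.assoc f qY, MorLib.BC.proj_snd]
      simp only [Category.assoc]
  have sqf : IsPullback qX f fm qY := by
    refine IsPullback.of_bot ?_ hq (MorLib.BC.isPullback_proj D yl mY.sq m)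
    rw [hm1]
    simpa only [Category.assoc] using MorLib.BC.isPullback_proj D xl mX.sq m
  refine ⟨D.obj m.left, _, _, e.inv ≫ c.π.app m.left, fm, pullback.snd yl (D.map m.hom), qX, qY, Fm, hN _,
    hA _, inferInstance, ?_, ?_,
    (MorLib.BC.isPullback_proj D yl mY.sq m).of_iso (Iso.refl _) (Iso.refl _) e (Iso.refl _) (by simp [qY])
      (by simp) (by simp) (by simp), sqf, hFm, ⟨θ.symm⟩⟩
  · rw [hm1]; infer_instance
  · rw [hm1]; infer_instance

/-- Over a field the stalk is a field. -/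
theorem isField_stalk_generic {T : Scheme.{u}} [IsIntegral T] {t : T} (h : t = genericPoint T) :
    IsField (T.presheaf.stalk t) := h ▸ Field.toIsField T.functionField

theorem isConstructible_noetherian {X Y S : Scheme.{u}} [IsLocallyNoetherian S] (f : X ⟶ Y) (h : Y ⟶ S)
    [LocallyOfFiniteType h] [LocallyOfFiniteType (f ≫ h)] [IsNoetherian X] [QuasiCompact (f ≫ h)]
    (F : X.Modules) (hF : Coh.IsCoh F) :
    IsConstructible {x : X | QF f h F x} := by
  refine ConsPropLib.isConstructible_of_dichotomy _ fun T j _ _ _ => ?_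
  obtain ⟨TS, jS, _, _, hr, hgen⟩ := ConsPropLib.exists_integral_closure ((f ≫ h) (j (genericPoint T)))
  haveI : IsLocallyNoetherian TS := LocallyOfFiniteType.isLocallyNoetherian jS
  have sub : Set.range (j ≫ f ≫ h) ⊆ Set.range jS := by
    rw [hr]
    rintro _ ⟨t, rfl⟩
    exact specializes_iff_mem_closure.1 ((genericPoint_specializes t).map (j ≫ f ≫ h).continuous)
  obtain ⟨a, ha⟩ := H23.RedSub.exists_lift_closed (j ≫ f ≫ h) jS sub
  let Y₁ := pullback h jS
  let qY : Y₁ ⟶ Y := pullback.fst h jS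
  let h₁ : Y₁ ⟶ TS := pullback.snd h jS
  let X₁ := pullback f qY
  let qX : X₁ ⟶ X := pullback.fst f qY
  let f₁ : X₁ ⟶ Y₁ := pullback.snd f qY
  have sqY : IsPullback qY h₁ h jS := IsPullback.of_hasPullback h jS
  have sqX : IsPullback qX f₁ f qY := IsPullback.of_hasPullback f qY
  haveI : IsLocallyNoetherian Y₁ := LocallyOfFiniteType.isLocallyNoetherian h₁
  haveI : LocallyOfFiniteType (f₁ ≫ h₁) :=
    MorphismProperty.of_isPullback (P := @LocallyOfFiniteType) (sqX.paste_vert sqY) inferInstance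
  haveI : QuasiCompact (f₁ ≫ h₁) :=
    MorphismProperty.of_isPullback (P := @QuasiCompact) (sqX.paste_vert sqY) inferInstance
  haveI : IsLocallyNoetherian X₁ := LocallyOfFiniteType.isLocallyNoetherian (f₁ ≫ h₁)
  haveI : LocallyOfFiniteType f₁ := locallyOfFiniteType_of_comp f₁ h₁
  haveI : LocallyOfFinitePresentation f₁ := FibreLoc5.lfp_of_noetherian' f₁
  let F₁ := (Scheme.Modules.pullback qX).obj F
  have hFc : Coh.IsCoh F₁ := by
    haveI : IsLocallyNoetherian X := inferInstance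
    exact QCoh.isCoh_iff_isFP.2 (ModStLib.isFP_pullback _ (QCoh.isCoh_iff_isFP.1 hF))
  haveI := (QCoh.isCoh_iff.1 hFc).1
  obtain ⟨V, hVne, hV⟩ := S4698.result (f₁ ≫ h₁) F₁ hFc
  have hηV : genericPoint TS ∈ V := by
    obtain ⟨v, hv⟩ := hVne
    exact (genericPoint_specializes v).mem_open V.2 hv
  let W : Set X₁ := {x | FlatMod.IsFlatOverAt f₁ F₁ x}
  have hW : IsOpen W := S4863.result f₁ F₁ (QCoh.isCoh_iff_isFP.1 hFc)
  let G : Set X₁ := (f₁ ≫ h₁) ⁻¹' (V : Set TS)
  have hG : IsOpen G := V.2.preimage (f₁ ≫ h₁).continuous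
  have key : ∀ x ∈ G, QF f h F (qX x) ↔ x ∈ W := fun x hx => by
    rw [← qf_baseChange sqY sqX F (QCoh.isCoh_iff.1 hF).1 x]
    refine ⟨fun hq => ?_, qf_of_flat f₁ h₁ F₁ x⟩
    rcases subsingleton_or_nontrivial (F₁.presheaf.stalk x) with hs | hn
    · letI := FlatMod.moduleStalkOver f₁ F₁ x
      show Module.Flat _ _
      infer_instance
    · exact (flat_of_qf f₁ h₁ F₁ hFc x (hV x hx) hq).2
  obtain ⟨b, hb1, hb2⟩ := (sqX.paste_vert sqY).exists_lift j a ha.symm
  have hlj : ∀ t, qX (b t) = j t := fun t => by rw [← Scheme.Hom.comp_apply, hb1]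
  have hgenG : genericPoint T ∈ b ⁻¹' G := by
    show (f₁ ≫ h₁) (b (genericPoint T)) ∈ V
    rw [← Scheme.Hom.comp_apply, hb2, show a (genericPoint T) = genericPoint TS from jS.isClosedEmbedding.injective (by
      rw [hgen, ← Scheme.Hom.comp_apply, ha]; rfl)]
    exact hηV
  by_cases hne : (b ⁻¹' (G ∩ W)).Nonempty
  · exact Or.inl (hne.mono (interior_maximal (fun t ht => show QF f h F (j t) from
      hlj t ▸ (key (b t) ht.1).2 ht.2) ((hG.inter hW).preimage b.continuous)))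
  · exact Or.inr ⟨genericPoint T, interior_maximal (s := (j ⁻¹' {x : X | QF f h F x})ᶜ)
      (fun t ht hq => hne ⟨t, ht, (key (b t) ht).1 ((hlj t).symm ▸ hq)⟩) (hG.preimage b.continuous) hgenG⟩

/-- The points at which a module is flat along the fibres form a locally constructible set. -/
theorem isLocallyConstructible_qf {X Y S : Scheme.{u}} (f : X ⟶ Y) (h : Y ⟶ S)
    [LocallyOfFinitePresentation (f ≫ h)] [LocallyOfFinitePresentation h]
    (F : X.Modules) (hF : CohB1.IsFP F) : IsLocallyConstructible {x : X | QF f h F x} := by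
  intro x
  obtain ⟨W, hW, hxW, -⟩ := exists_isAffineOpen_mem_and_subset (U := (⊤ : S.Opens)) (x := h (f x)) trivial
  obtain ⟨V, hV, hxV, hVW'⟩ := exists_isAffineOpen_mem_and_subset (U := h ⁻¹ᵁ W) (x := f x) hxW
  obtain ⟨U, hU, hxU, hUV'⟩ := exists_isAffineOpen_mem_and_subset (U := f ⁻¹ᵁ V) (x := x) hxV
  have hVW : V ≤ h ⁻¹ᵁ W := hVW'
  have hUV : U ≤ f ⁻¹ᵁ V := hUV'
  refine ⟨U, U.2.mem_nhds hxU, U.2, ?_⟩
  haveI : IsAffine (U : Scheme.{u}) := hU
  haveI : IsAffine (V : Scheme.{u}) := hV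
  haveI : IsAffine (W : Scheme.{u}) := hW
  let f' := f.resLE V U hUV
  let h' := h.resLE W V hVW
  have w₁ : f' ≫ V.ι = U.ι ≫ f := f.resLE_comp_ι hUV
  have w₂ : h' ≫ W.ι = V.ι ≫ h := h.resLE_comp_ι hVW
  haveI : LocallyOfFinitePresentation (f' ≫ h') := by
    rw [Scheme.Hom.resLE_comp_resLE]; infer_instance
  let F' := (Scheme.Modules.pullback U.ι).obj F
  obtain ⟨S₀, X₀, Y₀, π, f₀, h₀, qX, qY, F₀, _, _, _, _, _, sqY, sqX, hF₀, ⟨θ⟩⟩ :=
    exists_model_mor_mod f' h' F' (ModStLib.isFP_pullback _ hF)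
  haveI : IsLocallyNoetherian X₀ := LocallyOfFiniteType.isLocallyNoetherian (f₀ ≫ h₀)
  haveI : CompactSpace X₀ := QuasiCompact.compactSpace_of_compactSpace (f₀ ≫ h₀)
  haveI : IsNoetherian X₀ := {}
  have h0 := isConstructible_noetherian f₀ h₀ F₀ (QCoh.isCoh_iff_isFP.2 hF₀)
  haveI : QuasiCompact qX := by
    haveI : QuasiCompact π := inferInstance
    exact MorphismProperty.of_isPullback (P := @QuasiCompact) (sqX.paste_vert sqY).flip inferInstance
  have hset : (U.ι ⁻¹' {x : X | QF f h F x} : Set (U : Scheme.{u})) = qX ⁻¹' {x : X₀ | QF f₀ h₀ F₀ x} := by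
    ext z
    show QF f h F (U.ι z) ↔ QF f₀ h₀ F₀ (qX z)
    rw [← qf_openImmersion w₁ w₂ F z, ← qf_baseChange sqY sqX F₀ (QCoh.isQCoh_of_isFP hF₀) z]
    exact ⟨qf_congr_iso f' h' θ z, qf_congr_iso f' h' θ.symm z⟩
  show IsConstructible (U.ι ⁻¹' {x : X | QF f h F x} : Set (U : Scheme.{u}))
  rw [hset]
  exact qX.isConstructible_preimage h0

end Groth.Agent.FibFlatMod
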