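import Groth.Agent.FlatSyz5.Colim
import Groth.Agent.GrFlat5.FlatPullback
import Groth.Agent.QCoh.Support
import Groth.Agent.QCoh.LocFree

/-!
# Flatness of a module descends to a finitely generated subalgebra of the base
-/

set_option autoImplicit false
set_option linter.style.haveILetI false
set_option backward.isDefEq.respectTransparency false
set_option backward.isDefEq.respectTransparency.types false

universe u

open CategoryTheory Limits AlgebraicGeometry TensorProduct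

namespace Groth.Agent.FibFlatMod

/-- A ring is the directed colimit of its finitely generated subalgebras. -/
theorem isDirectedColimitRing_fg (A₀ A : Type u) [CommRing A₀] [CommRing A] [Algebra A₀ A] :
    FlatCA.IsDirectedColimitRing (fun s : {B : Subalgebra A₀ A // B.FG} => (s.1 : Type u))
      (fun _ _ h => (Subalgebra.inclusion h).toRingHom) A := by
  classical
  refine ⟨⟨fun a b => ⟨⟨a.1 ⊔ b.1, a.2.sup b.2⟩, (le_sup_left : a.1 ≤ a.1 ⊔ b.1), (le_sup_right : b.1 ≤ a.1 ⊔ b.1)⟩⟩, ⟨⟨⊥, Subalgebra.fg_bot⟩⟩,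
    fun _ => RingHom.ext fun _ => rfl, fun _ _ _ _ _ => RingHom.ext fun _ => rfl,
    fun _ _ _ => RingHom.ext fun _ => rfl, fun a => ⟨⟨Algebra.adjoin A₀ {a}, ?_⟩, ⟨a, ?_⟩, rfl⟩, ?_⟩
  · exact ⟨{a}, by simp⟩
  · exact Algebra.subset_adjoin rfl
  · intro s x hx
    exact ⟨s, le_rfl, Subtype.ext hx⟩

/-- Flatness over `Spec A` of the inverse image of a coherent module, at the points over an affine open,
descends to a finitely generated subalgebra. -/
theorem exists_fg_subalgebra_flat {A₀ A : Type u} [CommRing A₀] [CommRing A] [Algebra A₀ A] [IsNoetherianRing A₀]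
    {X₀ : Scheme.{u}} (u₀ : X₀ ⟶ Spec (CommRingCat.of A₀)) [LocallyOfFiniteType u₀] (F₀ : X₀.Modules)
    (hF : Coh.IsCoh F₀) {U : X₀.Opens} (hU : IsAffineOpen U)
    (hflat : ∀ x' : ↥(pullback u₀ (Spec.map (CommRingCat.ofHom (algebraMap A₀ A)))),
      pullback.fst u₀ _ x' ∈ U →
        FlatMod.IsFlatOverAt (pullback.snd u₀ _) ((Scheme.Modules.pullback (pullback.fst u₀ _)).obj F₀) x') :
    ∃ A₁ : Subalgebra A₀ A, A₁.FG ∧
      ∀ x' : ↥(pullback u₀ (Spec.map (CommRingCat.ofHom (algebraMap A₀ A₁)))), pullback.fst u₀ _ x' ∈ U →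
        FlatMod.IsFlatOverAt (pullback.snd u₀ _) ((Scheme.Modules.pullback (pullback.fst u₀ _)).obj F₀) x' := by
  let φ := (Scheme.ΓSpecIso (CommRingCat.of A₀)).inv ≫ u₀.appLE ⊤ U (le_top : U ≤ u₀ ⁻¹ᵁ ⊤)
  letI : Algebra A₀ Γ(X₀, U) := φ.hom.toAlgebra
  letI : Module A₀ Γ(F₀, U) := Module.compHom _ φ.hom
  haveI : IsScalarTower A₀ Γ(X₀, U) Γ(F₀, U) := .of_algebraMap_smul fun _ _ => rfl
  haveI : Algebra.FiniteType A₀ Γ(X₀, U) := by
    refine RingHom.finiteType_algebraMap.1 ?_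
    exact RingHom.FiniteType.comp (u₀.finiteType_appLE (isAffineOpen_top _) hU le_top)
      (RingHom.FiniteType.of_surjective _ (Scheme.ΓSpecIso (CommRingCat.of A₀)).symm.commRingCatIsoToRingEquiv.surjective)
  haveI : Algebra.FinitePresentation A₀ Γ(X₀, U) := Algebra.FinitePresentation.of_finiteType.1 inferInstance
  haveI : IsNoetherianRing Γ(X₀, U) := Algebra.FiniteType.isNoetherianRing A₀ _
  haveI : Module.Finite Γ(X₀, U) Γ(F₀, U) := (QCoh.isCoh_iff.1 hF).2 ⟨U, hU⟩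
  haveI : Module.FinitePresentation Γ(X₀, U) Γ(F₀, U) := Module.finitePresentation_of_finite _ _
  have hA : Module.Flat A (A ⊗[A₀] Γ(F₀, U)) :=
    (GrFlat5.flat_pullback_spec_iff u₀ (QCoh.isCoh_iff.1 hF).1 hU rfl _ rfl).2 hflat
  obtain ⟨⟨A₁, hA₁⟩, h₁⟩ := FlatSyz5.exists_flat_stage (A₀ := A₀)
    (fun s : {B : Subalgebra A₀ A // B.FG} => (s.1 : Type u)) (fun _ _ h => Subalgebra.inclusion h) A
    (isDirectedColimitRing_fg A₀ A) (B₀ := Γ(X₀, U)) Γ(F₀, U) hA
  exact ⟨A₁, hA₁, (GrFlat5.flat_pullback_spec_iff u₀ (QCoh.isCoh_iff.1 hF).1 hU rfl _ rfl).1 h₁⟩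

end Groth.Agent.FibFlatMod
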