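import Groth.Agent.FibFlatMod.Constr
import Groth.Agent.FibFlatMod.Descend
import Groth.Agent.FibFlat.Core
import Groth.Agent.S1386

/-!
# The fibrewise criterion of flatness for modules of finite presentation
-/

set_option autoImplicit false
set_option linter.style.haveILetI false
set_option backward.isDefEq.respectTransparency false
set_option backward.isDefEq.respectTransparency.types false

universe u

open CategoryTheory Limits AlgebraicGeometry TensorProduct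

namespace Groth.Agent.FibFlatMod

theorem nontrivial_stalk_of_pullback {X X₁ : Scheme.{u}} (q : X ⟶ X₁) (F₁ : X₁.Modules) {F : X.Modules}
    (θ : (Scheme.Modules.pullback q).obj F₁ ≅ F) (x : X) [Nontrivial (F.presheaf.stalk x)] :
    Nontrivial (F₁.presheaf.stalk (q x)) := by
  by_contra hn
  haveI := not_nontrivial_iff_subsingleton.1 hn
  let e₁ := ((KFlatLib.stalkPullbackIso q x).app F₁).toLinearEquiv
  letI : Algebra (X₁.presheaf.stalk (q x)) (X.presheaf.stalk x) := (q.stalkMap x).hom.toAlgebra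
  let e₀ : ((Scheme.Modules.pullback q).obj F₁).presheaf.stalk x ≃ₗ[X.presheaf.stalk x]
      X.presheaf.stalk x ⊗[X₁.presheaf.stalk (q x)] F₁.presheaf.stalk (q x) := e₁
  haveI : Subsingleton (((Scheme.Modules.pullback q).obj F₁).presheaf.stalk x) := e₀.injective.subsingleton
  let e₂ : ((Scheme.Modules.pullback q).obj F₁).presheaf.stalk x ≃ₗ[X.presheaf.stalk x] F.presheaf.stalk x :=
    ((DerSch.stalkFunctor X x).mapIso θ).toLinearEquiv
  haveI : Subsingleton (F.presheaf.stalk x) := e₂.symm.injective.subsingleton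
  exact false_of_nontrivial_of_subsingleton (F.presheaf.stalk x) 

/-- The criterion over an affine base, both schemes of finite presentation, the module flat over the base. -/
theorem criterion_affine {X Y S : Scheme.{u}} [IsAffine S] (f : X ⟶ Y) (g : Y ⟶ S)
    [LocallyOfFinitePresentation g] [QuasiCompact g] [QuasiSeparated g]
    [LocallyOfFinitePresentation (f ≫ g)] [QuasiCompact (f ≫ g)] [QuasiSeparated (f ≫ g)]
    (F : X.Modules) (hF : CohB1.IsFP F) (hfl : FlatMod.IsFlatOver (f ≫ g) F) (x : X)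
    [Nontrivial (F.presheaf.stalk x)] (hq : QF f g F x) :
    (g.stalkMap (f x)).hom.Flat ∧ FlatMod.IsFlatOverAt f F x := by
  obtain ⟨S₀, X₀, Y₀, π, f₀, g₀, qX, qY, F₀, _, _, _, _, _, sqY, sqX, hF₀, ⟨θ⟩⟩ :=
    exists_model_mor_mod f g F hF
  let A₀ := Γ(S₀, ⊤)
  let A := Γ(S, ⊤)
  letI : Algebra A₀ A := π.appTop.hom.toAlgebra
  haveI : IsNoetherianRing A₀ := IsLocallyNoetherian.component_noetherian ⟨⊤, isAffineOpen_top S₀⟩
  let eS := S.isoSpec
  let e₀ := S₀.isoSpec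
  let ρ : Spec (CommRingCat.of A) ⟶ Spec (CommRingCat.of A₀) :=
    Spec.map (CommRingCat.ofHom (algebraMap A₀ A))
  have hρ : eS.hom ≫ ρ = π ≫ e₀.hom := Scheme.isoSpec_hom_naturality π
  haveI : IsLocallyNoetherian X₀ := LocallyOfFiniteType.isLocallyNoetherian (f₀ ≫ g₀)
  have hF₀c : Coh.IsCoh F₀ := QCoh.isCoh_iff_isFP.2 hF₀
  let u₀ : X₀ ⟶ Spec (CommRingCat.of A₀) := (f₀ ≫ g₀) ≫ e₀.hom
  let v₀ : Y₀ ⟶ Spec (CommRingCat.of A₀) := g₀ ≫ e₀.hom
  have sqA : IsPullback qX ((f ≫ g) ≫ eS.hom) u₀ ρ :=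
    (sqX.paste_vert sqY).of_iso (Iso.refl _) (Iso.refl _) eS e₀ (by simp) (by simp) (by simp [u₀])
      (by simp [hρ])
  obtain ⟨U₀, hU₀, hxU, -⟩ := exists_isAffineOpen_mem_and_subset (U := (⊤ : X₀.Opens)) (x := qX x) trivial
  have hflat : ∀ z : ↥(pullback u₀ ρ), pullback.fst u₀ ρ z ∈ U₀ →
      FlatMod.IsFlatOverAt (pullback.snd u₀ ρ) ((Scheme.Modules.pullback (pullback.fst u₀ ρ)).obj F₀) z := by
    intro z _
    let i := sqA.isoPullback.inv
    have h1 : i ≫ (f ≫ g) ≫ eS.hom = pullback.snd u₀ ρ := sqA.isoPullback_inv_snd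
    have sq : IsPullback i (pullback.snd u₀ ρ) (f ≫ g) eS.inv :=
      IsPullback.of_horiz_isIso ⟨by rw [← h1]; simp⟩
    refine GrFlat5.isFlatOverAt_of_iso _ ?_ z
      (MorLib.FlatBC.isFlatOverAt_baseChange _ _ i eS.inv sq F z (hfl _))
    exact (Scheme.Modules.pullback i).mapIso θ ≪≫ (Scheme.Modules.pullbackComp i qX).app F₀ ≪≫
      (Scheme.Modules.pullbackCongr (show i ≫ qX = pullback.fst u₀ ρ from sqA.isoPullback_inv_fst)).app F₀
  obtain ⟨A₁, hA₁, hflat₁⟩ := exists_fg_subalgebra_flat (A := A) u₀ F₀ hF₀c hU₀ hflat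
  haveI : Algebra.FiniteType A₀ A₁ := (Subalgebra.fg_iff_finiteType A₁).1 hA₁
  haveI : IsNoetherianRing A₁ := Algebra.FiniteType.isNoetherianRing A₀ A₁
  let ρ₁ : Spec (CommRingCat.of A₁) ⟶ Spec (CommRingCat.of A₀) :=
    Spec.map (CommRingCat.ofHom (algebraMap A₀ A₁))
  let σ : S ⟶ Spec (CommRingCat.of A₁) := eS.hom ≫ Spec.map (CommRingCat.ofHom A₁.val.toRingHom)
  have hσ : σ ≫ ρ₁ = π ≫ e₀.hom := by
    rw [Category.assoc, ← Spec.map_comp, ← hρ]
    rfl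
  let X₁ := pullback u₀ ρ₁
  let Y₁ := pullback v₀ ρ₁
  let f₁ : X₁ ⟶ Y₁ := pullback.map u₀ ρ₁ v₀ ρ₁ f₀ (𝟙 _) (𝟙 _) (by simp [u₀, v₀]) (by simp)
  let g₁ : Y₁ ⟶ Spec (CommRingCat.of A₁) := pullback.snd v₀ ρ₁
  have hf₁ : f₁ ≫ g₁ = pullback.snd u₀ ρ₁ := (pullback.lift_snd _ _ _).trans (Category.comp_id _)
  have hf₁' : f₁ ≫ pullback.fst v₀ ρ₁ = pullback.fst u₀ ρ₁ ≫ f₀ := pullback.lift_fst _ _ _
  let qY₁ : Y ⟶ Y₁ := pullback.lift qY (g ≫ σ) (by rw [Category.assoc, hσ, ← Category.assoc g, ← sqY.w, Category.assoc])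
  let qX₁ : X ⟶ X₁ := pullback.lift qX ((f ≫ g) ≫ σ) (by
    rw [Category.assoc (f ≫ g), hσ, ← Category.assoc (f ≫ g), ← (sqX.paste_vert sqY).w]
    simp only [u₀, Category.assoc])
  have sqY₁ : IsPullback qY₁ g g₁ σ := by
    refine IsPullback.of_right ?_ (pullback.lift_snd _ _ _) (IsPullback.of_hasPullback v₀ ρ₁)
    rw [pullback.lift_fst, hσ]
    exact sqY.of_iso (Iso.refl _) (Iso.refl _) (Iso.refl _) e₀ (by simp) (by simp) (by simp [v₀]) (by simp)
  have sqX₁ : IsPullback qX₁ f f₁ qY₁ := by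
    refine IsPullback.of_bot ?_ ?_ sqY₁
    · rw [hf₁]
      refine IsPullback.of_right ?_ (pullback.lift_snd _ _ _) (IsPullback.of_hasPullback u₀ ρ₁)
      rw [pullback.lift_fst, hσ]
      exact (sqX.paste_vert sqY).of_iso (Iso.refl _) (Iso.refl _) (Iso.refl _) e₀ (by simp) (by simp)
        (by simp [u₀]) (by simp)
    · refine pullback.hom_ext ?_ ?_
      · rw [Category.assoc, hf₁', pullback.lift_fst_assoc, Category.assoc, pullback.lift_fst, sqX.w]
      · rw [Category.assoc qX₁, hf₁, pullback.lift_snd, Category.assoc f qY₁, pullback.lift_snd, Category.assoc]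
  let F₁ := (Scheme.Modules.pullback (pullback.fst u₀ ρ₁)).obj F₀
  haveI : LocallyOfFiniteType g₁ := inferInstance
  haveI : LocallyOfFiniteType (f₁ ≫ g₁) := by rw [hf₁]; infer_instance
  haveI : IsLocallyNoetherian Y₁ := LocallyOfFiniteType.isLocallyNoetherian g₁
  haveI : IsLocallyNoetherian X₁ := LocallyOfFiniteType.isLocallyNoetherian (f₁ ≫ g₁)
  haveI : LocallyOfFiniteType f₁ := locallyOfFiniteType_of_comp f₁ g₁
  have hF₁ : CohB1.IsFP F₁ := ModStLib.isFP_pullback _ hF₀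
  let θ₁ : (Scheme.Modules.pullback qX₁).obj F₁ ≅ F :=
    (Scheme.Modules.pullbackComp qX₁ (pullback.fst u₀ ρ₁)).app F₀ ≪≫
      (Scheme.Modules.pullbackCongr (pullback.lift_fst _ _ _)).app F₀ ≪≫ θ.symm
  let x₁ := qX₁ x
  have hx₁ : FlatMod.IsFlatOverAt (f₁ ≫ g₁) F₁ x₁ := by
    rw [hf₁]
    refine hflat₁ x₁ ?_
    rw [← Scheme.Hom.comp_apply, pullback.lift_fst]
    exact hxU
  have hq₁ : QF f₁ g₁ F₁ x₁ :=
    (qf_baseChange sqY₁ sqX₁ F₁ (QCoh.isQCoh_of_isFP hF₁) x).1 (qf_congr_iso f g θ₁.symm x hq)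
  haveI := nontrivial_stalk_of_pullback qX₁ F₁ θ₁ x
  obtain ⟨h1, h2⟩ := flat_of_qf f₁ g₁ F₁ (QCoh.isCoh_iff_isFP.2 hF₁) x₁ hx₁ hq₁
  refine ⟨?_, GrFlat5.isFlatOverAt_of_iso f θ₁ x
    (MorLib.FlatBC.isFlatOverAt_baseChange _ _ qX₁ qY₁ sqX₁ F₁ x h2)⟩
  refine FibFlat.flat_stalk_of_isPullback sqY₁ (f x) (S1386.flat_of_point_eq g₁ ?_ h1)
  rw [← Scheme.Hom.comp_apply, sqX₁.w, Scheme.Hom.comp_apply]

end Groth.Agent.FibFlatMod
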