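import Groth.Agent.FibFlatMod.Quot
import Groth.Agent.S1392
import Groth.Agent.S0392
import Groth.Agent.GrFlat5.FlatAtIso
import Groth.Agent.MorLib.FlatBC
import Groth.Agent.QCoh.Pullback
import Groth.Agent.QCoh.LocFree

/-!
# Flatness of a module along the fibres over a base
-/

set_option autoImplicit false
set_option linter.style.haveILetI false
set_option backward.isDefEq.respectTransparency false
set_option backward.isDefEq.respectTransparency.types false

universe u

open CategoryTheory Limits AlgebraicGeometry IsLocalRing TensorProduct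
open Groth.Agent.FibFlat

namespace Groth.Agent.FibFlatMod

variable {X Y S : Scheme.{u}}

/-- `F_x / m_s F_x` is flat over `O_{Y,y} / m_s O_{Y,y}`. -/
def QF (f : X ⟶ Y) (h : Y ⟶ S) (F : X.Modules) (x : X) : Prop :=
  FlatQuot f F x ((maximalIdeal (S.presheaf.stalk (h (f x)))).map (h.stalkMap (f x)).hom)

/-- The flatness of the module on the fibre, on the fibre itself. -/
theorem qf_iff_fiberMap (f : X ⟶ Y) (h : Y ⟶ S) (F : X.Modules) (s : S) (w : ↥((f ≫ h).fiber s)) :
    QF f h F ((f ≫ h).fiberι s w) ↔ FlatMod.IsFlatOverAt (MoreMor.fiberMap f h s)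
      ((Scheme.Modules.pullback ((f ≫ h).fiberι s)).obj F) w := by
  rw [← flatQuot_bot_iff]
  let x := (f ≫ h).fiberι s w
  have hy : h.fiberι s (MoreMor.fiberMap f h s w) = f x := by
    rw [← Scheme.Hom.comp_apply, ConsPropLib.fiberMap_comp_ι]
    rfl
  have hkY := ker_sm_fiberι h s (MoreMor.fiberMap f h s w) (f x) hy
  have hkX := ker_sm_fiberι (f ≫ h) s w x rfl
  rw [sm_self] at hkX
  refine flatQuot_pullback_iff (ConsPropLib.fiberMap_comp_ι f h s) F w hy ?_ (surjective_sm _ _ _) ?_ ?_ ?_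
  · exact ((f ≫ h).fiberι s).stalkMap_surjective w
  · rw [Ideal.map_eq_bot_iff_le_ker, hkY, sm_self]
  · rw [hkY, sm_self]
  · rw [hkX, sm_self (f ≫ h), Scheme.Hom.stalkMap_comp, CommRingCat.hom_comp, ← Ideal.map_map]
    exact le_rfl

/-- The flatness on the fibres is insensitive to base change of the base. -/
theorem qf_baseChange {X' Y' S' : Scheme.{u}} {f : X ⟶ Y} {h : Y ⟶ S} {f' : X' ⟶ Y'} {h' : Y' ⟶ S'}
    {qX : X' ⟶ X} {qY : Y' ⟶ Y} {q : S' ⟶ S} (sqY : IsPullback qY h' h q) (sqX : IsPullback qX f' f qY)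
    (F : X.Modules) (hF : Coh.IsQCoh F) (x' : X') :
    QF f' h' ((Scheme.Modules.pullback qX).obj F) x' ↔ QF f h F (qX x') := by
  let s' := (f' ≫ h') x'
  obtain ⟨eY, sqe, hιY⟩ := ConsPropLib.exists_fibre_pullback sqY s'
  obtain ⟨eX, sqeX, hιX⟩ := ConsPropLib.exists_fibre_pullback (sqX.paste_vert sqY) s'
  have hcomm : MoreMor.fiberMap f' h' s' ≫ eY = eX ≫ MoreMor.fiberMap f h (q s') := by
    refine pullback.hom_ext ?_ ?_
    · show (_ ≫ eY) ≫ h.fiberι (q s') = (eX ≫ _) ≫ h.fiberι (q s')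
      rw [Category.assoc, hιY, Category.assoc, ConsPropLib.fiberMap_comp_ι, reassoc_of% hιX,
        ← Category.assoc, ConsPropLib.fiberMap_comp_ι, Category.assoc, sqX.w]
    · show (_ ≫ eY) ≫ h.fiberToSpecResidueField (q s') = (eX ≫ _) ≫ h.fiberToSpecResidueField (q s')
      rw [Category.assoc, sqe.w, Category.assoc, ConsPropLib.fiberMap_comp_toSpec, sqeX.w,
        ← Category.assoc, ConsPropLib.fiberMap_comp_toSpec]
  have sqm : IsPullback eX (MoreMor.fiberMap f' h' s') (MoreMor.fiberMap f h (q s')) eY := by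
    refine IsPullback.of_bot ?_ hcomm.symm sqe
    rw [ConsPropLib.fiberMap_comp_toSpec, ConsPropLib.fiberMap_comp_toSpec]
    exact sqeX
  haveI : Flat (Spec.map (q.residueFieldMap s')) := by
    rw [Flat.SpecMap_iff]
    let := (q.residueFieldMap s').hom.toAlgebra
    exact RingHom.flat_algebraMap_iff.2 inferInstance
  haveI : Flat eY := MorphismProperty.of_isPullback (P := (@Flat : MorphismProperty Scheme.{u})) sqe.flip inferInstance
  let w' := (f' ≫ h').asFiber x'
  have hw' : (f' ≫ h').fiberι s' w' = x' := (f' ≫ h').fiberι_asFiber x'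
  have hw : (f ≫ h).fiberι (q s') (eX w') = qX x' := by
    rw [← Scheme.Hom.comp_apply, hιX, Scheme.Hom.comp_apply, hw']
  have L := qf_iff_fiberMap f' h' ((Scheme.Modules.pullback qX).obj F) s' w'
  rw [hw'] at L
  have R := qf_iff_fiberMap f h F (q s') (eX w')
  rw [hw] at R
  rw [L, R]
  let θ := (Scheme.Modules.pullbackComp eX ((f ≫ h).fiberι (q s'))).app F ≪≫
    (Scheme.Modules.pullbackCongr hιX).app F ≪≫
    ((Scheme.Modules.pullbackComp ((f' ≫ h').fiberι s') qX).app F).symm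
  constructor
  · intro hfl
    exact S1392.result _ _ eX eY sqm _ (QCoh.isQCoh_pullback _ hF) w' (Flat.stalkMap eY _)
      (GrFlat5.isFlatOverAt_of_iso _ θ.symm w' hfl)
  · intro hfl
    exact GrFlat5.isFlatOverAt_of_iso _ θ w'
      (MorLib.FlatBC.isFlatOverAt_baseChange _ _ eX eY sqm _ w' hfl)

theorem qf_congr_iso (f : X ⟶ Y) (h : Y ⟶ S) {F G : X.Modules} (θ : F ≅ G) (x : X) :
    QF f h F x → QF f h G x := by
  intro hq
  let w := (f ≫ h).asFiber x
  have hw : (f ≫ h).fiberι ((f ≫ h) x) w = x := (f ≫ h).fiberι_asFiber x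
  have LF := qf_iff_fiberMap f h F _ w
  have LG := qf_iff_fiberMap f h G _ w
  rw [hw] at LF LG
  exact LG.2 (GrFlat5.isFlatOverAt_of_iso _ ((Scheme.Modules.pullback _).mapIso θ) w (LF.1 hq))

/-- Open immersions do not affect flatness along the fibres. -/
theorem qf_openImmersion {U V W : Scheme.{u}} {f : X ⟶ Y} {h : Y ⟶ S} {f' : U ⟶ V} {h' : V ⟶ W}
    {jX : U ⟶ X} {jY : V ⟶ Y} {jS : W ⟶ S} [IsOpenImmersion jX] [IsOpenImmersion jY] [IsOpenImmersion jS]
    (w₁ : f' ≫ jY = jX ≫ f) (w₂ : h' ≫ jS = jY ≫ h) (F : X.Modules) (z : U) :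
    QF f' h' ((Scheme.Modules.pullback jX).obj F) z ↔ QF f h F (jX z) := by
  have hy : jY (f' z) = f (jX z) := by rw [← Scheme.Hom.comp_apply, w₁, Scheme.Hom.comp_apply]
  have hs : jS (h' (f' z)) = h (f (jX z)) := by
    rw [← Scheme.Hom.comp_apply, w₂, Scheme.Hom.comp_apply, hy]
  have bij : ∀ {A B : Scheme.{u}} (j : A ⟶ B) [IsOpenImmersion j] (a : A) (b : B) (e : j a = b),
      Function.Bijective (sm j a b e) := fun j _ a b e => by
    subst e
    rw [sm_self]
    exact ConcreteCategory.bijective_of_isIso (j.stalkMap a)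
  have hc : (h'.stalkMap (f' z)).hom.comp (sm jS (h' (f' z)) _ hs) =
      (sm jY (f' z) _ hy).comp (h.stalkMap (f (jX z))).hom := by
    rw [← sm_self h', ← sm_self h, ← sm_comp h' jS (f' z) (h' (f' z)) _ rfl hs,
      ← sm_comp jY h (f' z) (f (jX z)) _ hy rfl]
    exact sm_congr w₂ _ _ _
  refine (flatQuot_pullback_iff w₁ F z hy (ConcreteCategory.bijective_of_isIso (jX.stalkMap z)).2
    (bij jY _ _ hy).2 ?_ ?_ ?_).symm
  · rw [Ideal.map_map, ← hc, ← Ideal.map_map,
      IsLocalRing.map_maximalIdeal_of_surjective _ (bij jS _ _ hs).2]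
  · rw [(RingHom.injective_iff_ker_eq_bot _).1 (bij jY _ _ hy).1]; exact bot_le
  · rw [(RingHom.injective_iff_ker_eq_bot _).1 (ConcreteCategory.bijective_of_isIso (jX.stalkMap z)).1]
    exact bot_le

/-- Over a field nothing is divided out. -/
theorem qf_iff_of_isField (f : X ⟶ Y) (h : Y ⟶ S) (F : X.Modules) (x : X)
    (hS : IsField (S.presheaf.stalk (h (f x)))) : QF f h F x ↔ FlatMod.IsFlatOverAt f F x := by
  rw [QF, (isField_iff_maximalIdeal_eq.1 hS), Ideal.map_bot, flatQuot_bot_iff]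

theorem qf_of_flat (f : X ⟶ Y) (h : Y ⟶ S) (F : X.Modules) (x : X) (hfl : FlatMod.IsFlatOverAt f F x) :
    QF f h F x := flatQuot_of_flatAt f F x hfl _

/-- The fibrewise criterion of flatness over locally noetherian schemes. -/
theorem flat_of_qf [IsLocallyNoetherian X] [IsLocallyNoetherian Y] [IsLocallyNoetherian S]
    (f : X ⟶ Y) (h : Y ⟶ S) (F : X.Modules) (hF : Coh.IsCoh F) (x : X) [Nontrivial (F.presheaf.stalk x)]
    (hfl : FlatMod.IsFlatOverAt (f ≫ h) F x) (hq : QF f h F x) :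
    (h.stalkMap (f x)).hom.Flat ∧ FlatMod.IsFlatOverAt f F x := by
  let R := S.presheaf.stalk (h (f x))
  let B := Y.presheaf.stalk (f x)
  let C := X.presheaf.stalk x
  letI : Algebra R B := (h.stalkMap (f x)).hom.toAlgebra
  letI : Algebra B C := (f.stalkMap x).hom.toAlgebra
  letI : Algebra R C := ((f ≫ h).stalkMap x).hom.toAlgebra
  haveI : IsScalarTower R B C := .of_algebraMap_eq' (by
    show ((f ≫ h).stalkMap x).hom = (f.stalkMap x).hom.comp (h.stalkMap (f x)).hom
    rw [Scheme.Hom.stalkMap_comp]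
    rfl)
  letI := FlatMod.moduleStalkOver f F x
  letI : Module R (F.presheaf.stalk x) := FlatMod.moduleStalkOver (f ≫ h) F x
  haveI : IsScalarTower B C (F.presheaf.stalk x) := .of_algebraMap_smul fun _ _ => rfl
  haveI : IsScalarTower R B (F.presheaf.stalk x) := .of_algebraMap_smul fun r m => by
    show (f.stalkMap x).hom ((h.stalkMap (f x)).hom r) • m = ((f ≫ h).stalkMap x).hom r • m
    rw [Scheme.Hom.stalkMap_comp]
    rfl
  haveI : IsLocalHom (algebraMap R B) := inferInstanceAs (IsLocalHom (h.stalkMap (f x)).hom)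
  haveI : IsLocalHom (algebraMap B C) := inferInstanceAs (IsLocalHom (f.stalkMap x).hom)
  haveI : Module.Finite C (F.presheaf.stalk x) := QCoh.finite_stalk_of_isFT (QCoh.isCoh_iff.1 hF).1 (QCoh.isFT_of_isFP (QCoh.isCoh_iff_isFP.1 hF)) x
  haveI : Module.Flat R (F.presheaf.stalk x) := hfl
  obtain ⟨h1, h2⟩ := S0392.result (R := R) (S := B) (S' := C) (M := F.presheaf.stalk x)
    ((flat_tensorQuot_iff _).2 hq)
  exact ⟨h1, h2⟩

end Groth.Agent.FibFlatMod
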