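import Groth.Agent.FibFlatMod.EssFP
import Groth.Agent.S2107
import Groth.Agent.W4Lib.Flat
import Groth.Agent.KFlatLib.Scheme.Exact
import Groth.Agent.S1393
import Groth.Prelude.Def_FlatMod2

/-!
# Flatness of a cokernel from injectivity on the fibre
-/

set_option autoImplicit false
set_option linter.style.haveILetI false
set_option backward.isDefEq.respectTransparency false
set_option backward.isDefEq.respectTransparency.types false

universe u

open CategoryTheory Limits AlgebraicGeometry TensorProduct

namespace Groth.Agent.FibFlatMod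

/-- Membership in `I P` as vanishing after reduction. -/
theorem mem_map_smul_top_iff {R S P : Type u} [CommRing R] [CommRing S] [Algebra R S]
    [AddCommGroup P] [Module S P] [Module R P] [IsScalarTower R S P] (I : Ideal R) (p : P) :
    p ∈ I.map (algebraMap R S) • (⊤ : Submodule S P) ↔ (1 : R ⧸ I) ⊗ₜ[R] p = 0 := by
  have h : p ∈ I.map (algebraMap R S) • (⊤ : Submodule S P) ↔ p ∈ I • (⊤ : Submodule R P) := by
    rw [← Submodule.restrictScalars_mem R, Ideal.smul_restrictScalars, Submodule.restrictScalars_top]
  rw [h, ← Submodule.Quotient.mk_eq_zero, ← (TensorProduct.quotTensorEquivQuotSMul P I).map_eq_zero_iff]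
  have := TensorProduct.quotTensorEquivQuotSMul_mk_tmul I (1 : R) p
  rw [one_smul, map_one] at this
  rw [this]

/-- An injection with flat cokernel stays injective modulo an ideal of the base. -/
theorem mem_smul_of_flat_coker {R S M N : Type u} [CommRing R] [CommRing S] [Algebra R S]
    [AddCommGroup M] [Module S M] [Module R M] [IsScalarTower R S M]
    [AddCommGroup N] [Module S N] [Module R N] [IsScalarTower R S N]
    (u : M →ₗ[S] N) (hu : Function.Injective u) [Module.Flat R (N ⧸ LinearMap.range u)] (I : Ideal R) (m : M)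
    (hm : u m ∈ I.map (algebraMap R S) • (⊤ : Submodule S N)) : m ∈ I.map (algebraMap R S) • (⊤ : Submodule S M) := by
  rw [mem_map_smul_top_iff] at hm ⊢
  let q : N →ₗ[R] N ⧸ LinearMap.range u := (LinearMap.range u).mkQ.restrictScalars R
  have hex : Function.Exact (u.restrictScalars R) q := (LinearMap.exact_map_mkQ_range u :)
  have hinj : Function.Injective ((u.restrictScalars R).lTensor (R ⧸ I)) :=
    W4Lib.lTensor_injective_of_flat_quotient (f := u.restrictScalars R) (g := q) hu hex
      (Submodule.mkQ_surjective (LinearMap.range u)) (R ⧸ I)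
  refine hinj ?_
  exact (LinearMap.lTensor_tmul (R ⧸ I) (u.restrictScalars R) 1 m).trans (hm.trans (map_zero _).symm)

variable {X Y : Scheme.{u}}

/-- The stalk of a map of modules. -/
noncomputable abbrev stalkLin {F F' : X.Modules} (u : F' ⟶ F) (x : X) :
    F'.presheaf.stalk x →ₗ[X.presheaf.stalk x] F.presheaf.stalk x :=
  ((DerSch.stalkFunctor X x).map u).hom

/-- The stalk of the cokernel. -/
theorem nonempty_stalk_cokernel {F F' : X.Modules} (u : F' ⟶ F) (x : X) :
    Nonempty ((F.presheaf.stalk x ⧸ LinearMap.range (stalkLin u x)) ≃ₗ[X.presheaf.stalk x]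
      (cokernel u).presheaf.stalk x) := by
  let T := ShortComplex.mk u (cokernel.π u) (cokernel.condition u)
  have hT : T.Exact := ShortComplex.exact_of_g_is_cokernel T (cokernelIsCokernel u)
  have h1 := (KFlatLib.exact_iff_stalk T).1 hT x
  have h2 := (ShortComplex.ShortExact.moduleCat_exact_iff_function_exact _).1 h1
  haveI : Epi ((DerSch.stalkFunctor X x).map (cokernel.π u)) := inferInstance
  have h3 := (ModuleCat.epi_iff_surjective _).1 this
  exact ⟨h2.linearEquivOfSurjective h3⟩

/-- For a flat module: injectivity with flat cokernel is injectivity on the fibre. -/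
theorem inj_coker_flat_iff (f : X ⟶ Y) [LocallyOfFinitePresentation f] {F F' : X.Modules} (hF : CohB1.IsFP F)
    (hF' : CohB1.IsFP F') (u : F' ⟶ F) (x : X) (hflat : FlatMod.IsFlatOverAt f F x) :
    (Function.Injective (stalkLin u x) ∧ FlatMod.IsFlatOverAt f (cokernel u) x) ↔
      ∀ m : F'.presheaf.stalk x,
        stalkLin u x m ∈ ((IsLocalRing.maximalIdeal (Y.presheaf.stalk (f x))).map (f.stalkMap x).hom) •
          (⊤ : Submodule (X.presheaf.stalk x) (F.presheaf.stalk x)) →
        m ∈ ((IsLocalRing.maximalIdeal (Y.presheaf.stalk (f x))).map (f.stalkMap x).hom) •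
          (⊤ : Submodule (X.presheaf.stalk x) (F'.presheaf.stalk x)) := by
  let R := Y.presheaf.stalk (f x)
  let S := X.presheaf.stalk x
  letI : Algebra R S := (f.stalkMap x).hom.toAlgebra
  haveI : IsLocalHom (algebraMap R S) := inferInstanceAs (IsLocalHom (f.stalkMap x).hom)
  letI := FlatMod.moduleStalkOver f F x
  letI := FlatMod.moduleStalkOver f F' x
  letI := FlatMod.moduleStalkOver f (cokernel u) x
  haveI : IsScalarTower R S (F.presheaf.stalk x) := .of_algebraMap_smul fun _ _ => rfl
  haveI : IsScalarTower R S (F'.presheaf.stalk x) := .of_algebraMap_smul fun _ _ => rfl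
  haveI : IsScalarTower R S ((cokernel u).presheaf.stalk x) := .of_algebraMap_smul fun _ _ => rfl
  haveI : Module.Flat R (F.presheaf.stalk x) := hflat
  haveI := S1393.fp_stalk (QCoh.isQCoh_of_isFP hF) hF x
  haveI := S1393.fp_stalk (QCoh.isQCoh_of_isFP hF') hF' x
  obtain ⟨e⟩ := nonempty_stalk_cokernel u x
  let eR := e.restrictScalars R
  constructor
  · rintro ⟨hinj, hC⟩ m hm
    haveI : Module.Flat R ((cokernel u).presheaf.stalk x) := hC
    haveI : Module.Flat R (F.presheaf.stalk x ⧸ LinearMap.range (stalkLin u x)) := Module.Flat.of_linearEquiv eR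
    exact mem_smul_of_flat_coker (stalkLin u x) hinj _ m hm
  · intro H
    obtain ⟨h1, h2⟩ := S2107.result (R := R) (isEssFP_stalkMap f x) (stalkLin u x) H
    refine ⟨h1, ?_⟩
    exact (Module.Flat.of_linearEquiv eR.symm :)

end Groth.Agent.FibFlatMod
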