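import Groth.Agent.FibFlatMod.Crit

/-!
# The fibrewise criterion of flatness for modules, general form
-/

set_option autoImplicit false
set_option linter.style.haveILetI false
set_option backward.isDefEq.respectTransparency false
set_option backward.isDefEq.respectTransparency.types false

universe u

open CategoryTheory Limits AlgebraicGeometry TensorProduct IsLocalRing Groth.Agent.FibFlat

namespace Groth.Agent.FibFlatMod

/-- An algebra of finite type is a quotient of one of finite presentation with the same fibre at a point. -/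
theorem exists_fp_cover {R S' : Type u} [CommRing R] [CommRing S'] [Algebra R S'] [Algebra.FiniteType R S']
    (y' : Spec (CommRingCat.of S')) :
    ∃ (P : CommRingCat.{u}) (r : CommRingCat.of R ⟶ P) (i : P ⟶ CommRingCat.of S'),
      r.hom.FinitePresentation ∧ Function.Surjective i.hom ∧ r ≫ i = CommRingCat.ofHom (algebraMap R S') ∧
      RingHom.ker (sm (Spec.map i) y' (Spec.map i y') rfl) ≤
        (maximalIdeal _).map ((Spec.map r).stalkMap (Spec.map i y')).hom := by
  classical
  obtain ⟨m, π, hπ⟩ := Algebra.FiniteType.iff_quotient_mvPolynomial''.1 ‹Algebra.FiniteType R S'›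
  set gS := Spec.map (CommRingCat.ofHom (algebraMap R S'))
  let s := gS y'
  let A := (Spec (CommRingCat.of R)).presheaf.stalk s
  let τ : R →+* ResidueField A := (residue A).comp (tS (CommRingCat.of R) s)
  obtain ⟨t, ht, htspan⟩ := (Submodule.fg_span_iff_fg_span_finset_subset
    (MvPolynomial.map τ '' (RingHom.ker π.toRingHom : Set (MvPolynomial (Fin m) R)))).1
    (IsNoetherian.noetherian (Ideal.span (MvPolynomial.map τ '' (RingHom.ker π.toRingHom : Set (MvPolynomial (Fin m) R)))))
  obtain ⟨t₀, ht₀, rfl⟩ := Finset.subset_set_image_iff.1 ht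
  let J : Ideal (MvPolynomial (Fin m) R) := Ideal.span t₀
  have hJ : J.FG := ⟨t₀, rfl⟩
  have : Algebra.FinitePresentation R (MvPolynomial (Fin m) R ⧸ J) := Algebra.FinitePresentation.quotient hJ
  let i : (MvPolynomial (Fin m) R ⧸ J) →ₐ[R] S' :=
    Ideal.Quotient.liftₐ J π fun a ha => (Ideal.span_le.2 ht₀ : J ≤ RingHom.ker π.toRingHom) ha
  have hi : Function.Surjective i := fun y => let ⟨x, hx⟩ := hπ y; ⟨Ideal.Quotient.mk J x, hx⟩
  let iS := Spec.map (CommRingCat.ofHom i.toRingHom)
  let gP := Spec.map (CommRingCat.ofHom (algebraMap R (MvPolynomial (Fin m) R ⧸ J)))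
  have hgS : gS = iS ≫ gP := by
    rw [← Spec.map_comp]
    exact congrArg Spec.map (CommRingCat.hom_ext i.comp_algebraMap.symm)
  have : IsClosedImmersion iS := IsClosedImmersion.spec_of_surjective _ hi
  let y₁ := iS y'
  let b := sm iS y' y₁ rfl
  have hs : gP y₁ = s := by
    simp only [s, y₁, hgS, Scheme.Hom.comp_apply]
  have hker : RingHom.ker b ≤ (maximalIdeal A).map (sm gP y₁ s hs) := by
    intro z hz
    rw [RingHom.mem_ker] at hz
    set K := (maximalIdeal A).map (sm gP y₁ s hs)
    obtain ⟨a, u, hu, hau⟩ := tS_surj _ _ z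
    have hnat := RingHom.congr_fun (tS_natural (CommRingCat.ofHom i.toRingHom) y' y₁ rfl)
    simp only [RingHom.comp_apply] at hnat
    have h0 : tS (CommRingCat.of S') y' (i a) = 0 := by
      refine (hnat a).symm.trans ?_
      rw [← hau, map_mul]
      exact (congrArg (· * _) hz).trans (zero_mul _)
    obtain ⟨v, hv, hva⟩ := exists_of_tS_eq_zero _ _ _ h0
    obtain ⟨v, rfl⟩ := hi v
    have hv' : IsUnit (tS (CommRingCat.of _) y₁ v) := by
      refine isUnit_of_map_unit b _ ?_
      rw [show b (tS (CommRingCat.of _) y₁ v) = _ from hnat v]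
      exact hv
    obtain ⟨c, hc⟩ := Ideal.Quotient.mk_surjective (v * a)
    have hcπ : c ∈ RingHom.ker π.toRingHom := by
      show π c = 0
      rw [← hva, ← map_mul, ← hc]
      rfl
    let κ : R →+* (Spec (CommRingCat.of (MvPolynomial (Fin m) R ⧸ J))).presheaf.stalk y₁ ⧸ K :=
      (Ideal.Quotient.mk K).comp ((tS (CommRingCat.of _) y₁).comp (algebraMap R (MvPolynomial (Fin m) R ⧸ J)))
    let ρA : ResidueField A →+* (Spec (CommRingCat.of (MvPolynomial (Fin m) R ⧸ J))).presheaf.stalk y₁ ⧸ K :=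
      Ideal.quotientMap K (sm gP y₁ s hs) Ideal.le_comap_map
    have hκ : ρA.comp τ = κ := RingHom.ext fun r => by
      show Ideal.Quotient.mk K (sm gP y₁ s hs (tS (CommRingCat.of R) s r)) = _
      exact congrArg _ (RingHom.congr_fun
        (tS_natural (CommRingCat.ofHom (algebraMap R (MvPolynomial (Fin m) R ⧸ J))) y₁ s hs) r)
    let q : MvPolynomial (Fin m) R →+* (Spec (CommRingCat.of (MvPolynomial (Fin m) R ⧸ J))).presheaf.stalk y₁ ⧸ K :=
      ((Ideal.Quotient.mk K).comp (tS (CommRingCat.of _) y₁)).comp (Ideal.Quotient.mk J)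
    let E := MvPolynomial.eval₂Hom ρA fun k => q (MvPolynomial.X k)
    have hE : E.comp (MvPolynomial.map τ) = q := by
      refine MvPolynomial.ringHom_ext (fun r => ?_) fun k => ?_
      · simp only [E, RingHom.comp_apply, MvPolynomial.map_C, MvPolynomial.eval₂Hom_C]
        exact RingHom.congr_fun hκ r
      · simp [E]
    have hq : q c = 0 := by
      rw [← hE, RingHom.comp_apply]
      have h1 : MvPolynomial.map τ c ∈ Ideal.span ((t₀.image (MvPolynomial.map τ) : Finset _) : Set (MvPolynomial (Fin m) (ResidueField A))) :=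
        htspan.le (Ideal.subset_span ⟨c, hcπ, rfl⟩)
      refine (Ideal.span_le.2 ?_ : _ ≤ RingHom.ker E) h1
      intro w hw
      obtain ⟨w₀, hw₀, rfl⟩ := Finset.mem_image.1 hw
      rw [SetLike.mem_coe, RingHom.mem_ker, ← RingHom.comp_apply, hE]
      show Ideal.Quotient.mk K (tS (CommRingCat.of _) y₁ (Ideal.Quotient.mk J w₀)) = 0
      rw [Ideal.Quotient.eq_zero_iff_mem.2 (Ideal.subset_span hw₀ : w₀ ∈ J), map_zero, map_zero]
    have h2 : tS (CommRingCat.of _) y₁ (v * a) ∈ K := by
      rw [← hc]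
      exact Ideal.Quotient.eq_zero_iff_mem.1 hq
    rw [map_mul, Ideal.unit_mul_mem_iff_mem _ hv', ← hau, Ideal.mul_unit_mem_iff_mem _ hu] at h2
    exact h2
  refine ⟨CommRingCat.of (MvPolynomial (Fin m) R ⧸ J), CommRingCat.ofHom (algebraMap R _), CommRingCat.ofHom i.toRingHom,
    RingHom.finitePresentation_algebraMap.2 inferInstance, hi, CommRingCat.hom_ext i.comp_algebraMap, ?_⟩
  have key : ∀ (s' : Spec (CommRingCat.of R)) (e : gP y₁ = s'),
      (maximalIdeal ((Spec (CommRingCat.of R)).presheaf.stalk s')).map (sm gP y₁ s' e) =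
        (maximalIdeal _).map (gP.stalkMap y₁).hom := by
    rintro s' rfl
    rw [sm_self]
  exact hker.trans (key s hs).le


theorem flatAt_openImmersion {X Y U V : Scheme.{u}} {f : X ⟶ Y} {f' : U ⟶ V} {jX : U ⟶ X} {jY : V ⟶ Y}
    [IsOpenImmersion jX] [IsOpenImmersion jY] (w : f' ≫ jY = jX ≫ f) (F : X.Modules) (z : U) :
    FlatMod.IsFlatOverAt f' ((Scheme.Modules.pullback jX).obj F) z ↔ FlatMod.IsFlatOverAt f F (jX z) := by
  have hy : jY (f' z) = f (jX z) := by rw [← Scheme.Hom.comp_apply, w, Scheme.Hom.comp_apply]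
  have hb : ∀ (a : V) (b : Y) (e : jY a = b), Function.Bijective (sm jY a b e) := fun a b e => by
    subst e
    rw [sm_self]
    exact ConcreteCategory.bijective_of_isIso (jY.stalkMap a)
  rw [← flatQuot_bot_iff, ← flatQuot_bot_iff]
  exact (flatQuot_pullback_iff w F z hy (ConcreteCategory.bijective_of_isIso (jX.stalkMap z)).2
    (hb _ _ hy).2 Ideal.map_bot ((RingHom.injective_iff_ker_eq_bot _).1 (hb _ _ hy).1).le
    (((RingHom.injective_iff_ker_eq_bot _).1 (ConcreteCategory.bijective_of_isIso (jX.stalkMap z)).1).le.trans bot_le)).symm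

/-- A map into the target with surjective local homomorphism. -/
theorem flatQuot_comp_iff {X V Y : Scheme.{u}} (f' : X ⟶ V) (jY : V ⟶ Y) (F : X.Modules) (x : X)
    (hY : Function.Surjective (jY.stalkMap (f' x)).hom) {I : Ideal (Y.presheaf.stalk (jY (f' x)))}
    {I' : Ideal (V.presheaf.stalk (f' x))} (hI : I.map (jY.stalkMap (f' x)).hom = I')
    (hk : RingHom.ker (jY.stalkMap (f' x)).hom ≤ I) :
    FlatQuot (f' ≫ jY) F x I ↔ FlatQuot f' F x I' := by
  letI : Module (Y.presheaf.stalk (jY (f' x))) (F.presheaf.stalk x) := FlatMod.moduleStalkOver (f' ≫ jY) F x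
  letI := FlatMod.moduleStalkOver f' F x
  refine flat_quot_iff (jY.stalkMap (f' x)).hom hY (AddMonoidHom.id _) Function.surjective_id ?_ hI hk
    (fun m hm => by rw [show m = 0 from hm]; exact zero_mem _)
  intro b m
  show ((f' ≫ jY).stalkMap x).hom b • m = (f'.stalkMap x).hom ((jY.stalkMap (f' x)).hom b) • m
  rw [Scheme.Hom.stalkMap_comp]
  first | done | rfl

theorem nontrivial_openImmersion {U X : Scheme.{u}} (j : U ⟶ X) [IsOpenImmersion j] (F : X.Modules) (z : U)
    [Nontrivial (F.presheaf.stalk (j z))] :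
    Nontrivial (((Scheme.Modules.pullback j).obj F).presheaf.stalk z) := by
  letI : Algebra (X.presheaf.stalk (j z)) (U.presheaf.stalk z) := (j.stalkMap z).hom.toAlgebra
  haveI : Module.Flat (X.presheaf.stalk (j z)) (U.presheaf.stalk z) := Flat.stalkMap j z
  haveI : IsLocalHom (algebraMap (X.presheaf.stalk (j z)) (U.presheaf.stalk z)) :=
    inferInstanceAs (IsLocalHom (j.stalkMap z).hom)
  haveI := Module.FaithfullyFlat.of_flat_of_isLocalHom (A := X.presheaf.stalk (j z)) (B := U.presheaf.stalk z)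
  let e : ((Scheme.Modules.pullback j).obj F).presheaf.stalk z ≃ₗ[U.presheaf.stalk z]
      U.presheaf.stalk z ⊗[X.presheaf.stalk (j z)] F.presheaf.stalk (j z) :=
    ((KFlatLib.stalkPullbackIso j z).app F).toLinearEquiv
  exact e.toEquiv.nontrivial

/-- A flat module with nonzero finite stalk forces the local map to be injective. -/
theorem injective_of_flat_nontrivial {A B M : Type u} [CommRing A] [CommRing B] [IsLocalRing A] [IsLocalRing B]
    [Algebra A B] [IsLocalHom (algebraMap A B)] [AddCommGroup M] [Module A M] [Module B M] [IsScalarTower A B M]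
    [Module.Finite B M] [Nontrivial M] [Module.Flat A M] (a : A) (ha : ∀ m : M, a • m = 0) : a = 0 := by
  haveI : Module.FaithfullyFlat A M := by
    refine ⟨fun m hm htop => ?_⟩
    obtain rfl := IsLocalRing.eq_maximalIdeal hm
    have h2 : (⊤ : Submodule B M) ≤ maximalIdeal B • ⊤ := by
      intro x _
      have hx : x ∈ maximalIdeal A • (⊤ : Submodule A M) := by rw [htop]; trivial
      induction hx using Submodule.smul_induction_on' with
      | smul a ha y _ =>
        rw [← IsScalarTower.algebraMap_smul B a y]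
        exact Submodule.smul_mem_smul (by simpa using ha) Submodule.mem_top
      | add p _ q _ hp hq => exact add_mem (hp trivial) (hq trivial)
    exact not_subsingleton M ((Submodule.subsingleton_iff B).mp (subsingleton_of_bot_eq_top
      (Submodule.eq_bot_of_le_smul_of_le_jacobson_bot _ _ Module.Finite.fg_top h2
        (maximalIdeal_le_jacobson _)).symm))
  let μ : A →ₗ[A] A := LinearMap.toSpanSingleton A A a
  have h0 : μ.lTensor M = 0 := TensorProduct.ext' fun m b => by
    simp only [μ, LinearMap.lTensor_tmul, LinearMap.toSpanSingleton_apply, LinearMap.zero_apply, smul_eq_mul]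
    rw [show b * a = a • b by rw [smul_eq_mul, mul_comm], ← TensorProduct.smul_tmul, ha m, TensorProduct.zero_tmul]
  have := (Module.FaithfullyFlat.zero_iff_lTensor_zero A M μ).2 h0
  simpa [μ] using LinearMap.congr_fun this 1

/-- The fibrewise criterion of flatness for a module of finite presentation. -/
theorem criterion {X Y S : Scheme.{u}} (f : X ⟶ Y) (g : Y ⟶ S) [LocallyOfFinitePresentation (f ≫ g)]
    [LocallyOfFiniteType g] (F : X.Modules) (hF : CohB1.IsFP F) (x : X) [Nontrivial (F.presheaf.stalk x)]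
    (hfl : FlatMod.IsFlatOverAt (f ≫ g) F x) (hq : QF f g F x) :
    (g.stalkMap (f x)).hom.Flat ∧ FlatMod.IsFlatOverAt f F x := by
  haveI := QCoh.isQCoh_of_isFP hF
  obtain ⟨W, hW, hxW, -⟩ := exists_isAffineOpen_mem_and_subset (U := (⊤ : S.Opens)) (x := g (f x)) trivial
  obtain ⟨V, hV, hxV, hVW'⟩ := exists_isAffineOpen_mem_and_subset (U := g ⁻¹ᵁ W) (x := f x) hxW
  obtain ⟨U, hU, hxU, hsub⟩ := exists_isAffineOpen_mem_and_subset
    (U := f ⁻¹ᵁ V ⊓ (⟨_, S4863.result (f ≫ g) F hF⟩ : X.Opens)) (x := x) ⟨hxV, hfl⟩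
  have hVW : V ≤ g ⁻¹ᵁ W := hVW'
  have hUV : U ≤ f ⁻¹ᵁ V := fun z hz => (hsub hz).1
  have hUW : U ≤ (f ≫ g) ⁻¹ᵁ W := fun z hz => hVW (hUV hz)
  haveI : IsAffine (U : Scheme.{u}) := hU
  let A := Γ(S, W)
  let B := Γ(Y, V)
  letI : Algebra A B := (g.appLE W V hVW).hom.toAlgebra
  haveI : Algebra.FiniteType A B := g.finiteType_appLE hW hV hVW
  let f' : (U : Scheme.{u}) ⟶ Spec B := f.resLE V U hUV ≫ hV.isoSpec.hom
  let g' : Spec B ⟶ Spec A := Spec.map (CommRingCat.ofHom (algebraMap A B))
  have w₁ : f' ≫ hV.fromSpec = U.ι ≫ f := by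
    rw [Category.assoc, IsAffineOpen.isoSpec_hom_fromSpec]
    exact f.resLE_comp_ι hUV
  have w₂ : g' ≫ hW.fromSpec = hV.fromSpec ≫ g := hW.SpecMap_appLE_fromSpec g hV hVW
  have w₁₂ : (f' ≫ g') ≫ hW.fromSpec = U.ι ≫ f ≫ g := by rw [Category.assoc, w₂, reassoc_of% w₁]
  haveI : LocallyOfFinitePresentation (f' ≫ g') := by
    have : f' ≫ g' = (f ≫ g).resLE W U hUW ≫ hW.isoSpec.hom := by
      rw [← cancel_mono hW.fromSpec, w₁₂, Category.assoc, IsAffineOpen.isoSpec_hom_fromSpec,
        Scheme.Hom.resLE_comp_ι]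
    rw [this]
    infer_instance
  let F' := (Scheme.Modules.pullback U.ι).obj F
  have hF' : CohB1.IsFP F' := ModStLib.isFP_pullback _ hF
  let z : (U : Scheme.{u}) := ⟨x, hxU⟩
  haveI : Nontrivial (F'.presheaf.stalk z) :=
    haveI : Nontrivial (F.presheaf.stalk (U.ι z)) := ‹Nontrivial (F.presheaf.stalk x)›
    nontrivial_openImmersion U.ι F z
  have hfl' : FlatMod.IsFlatOver (f' ≫ g') F' := fun a =>
    (flatAt_openImmersion w₁₂ F a).2 (hsub a.2).2
  have hq' : QF f' g' F' z := (qf_openImmersion w₁ w₂ F z).2 hq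
  obtain ⟨P, r, i, hr, hi, hri, hker⟩ := exists_fp_cover (R := A) (S' := B) (f' z)
  let iS := Spec.map i
  let gP := Spec.map r
  let fP := f' ≫ iS
  haveI : IsClosedImmersion iS := IsClosedImmersion.spec_of_surjective _ hi
  have hgS : g' = iS ≫ gP := by rw [← Spec.map_comp, hri]
  haveI : LocallyOfFinitePresentation gP := HasRingHomProperty.Spec_iff.2 hr
  have hcomp : fP ≫ gP = f' ≫ g' := by rw [Category.assoc, ← hgS]
  haveI : LocallyOfFinitePresentation (fP ≫ gP) := hcomp ▸ inferInstance
  have hy : iS (f' z) = fP z := rfl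
  have hmap : ((maximalIdeal _).map (gP.stalkMap (fP z)).hom).map (iS.stalkMap (f' z)).hom =
      (maximalIdeal _).map (g'.stalkMap (f' z)).hom := by
    have key : ∀ (h : Spec B ⟶ Spec A), iS ≫ gP = h → ((maximalIdeal _).map (gP.stalkMap (iS (f' z))).hom).map
        (iS.stalkMap (f' z)).hom = (maximalIdeal _).map (h.stalkMap (f' z)).hom := by
      rintro h rfl
      rw [Ideal.map_map, Scheme.Hom.stalkMap_comp]
      rfl
    exact key g' hgS.symm
  rw [sm_self] at hker
  have hqP : QF fP gP F' z :=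
    (flatQuot_comp_iff f' iS F' z (iS.stalkMap_surjective _) hmap hker).2 hq'
  have hflP : FlatMod.IsFlatOver (fP ≫ gP) F' := by rw [hcomp]; exact hfl'
  obtain ⟨hgP, hfP⟩ := criterion_affine fP gP F' hF' hflP z hqP
  -- the closed immersion is an isomorphism on the local ring
  have hinj : Function.Injective (iS.stalkMap (f' z)).hom := by
    refine (injective_iff_map_eq_zero _).2 fun a ha => ?_
    letI : Algebra ((Spec P).presheaf.stalk (fP z)) ((U : Scheme.{u}).presheaf.stalk z) := (fP.stalkMap z).hom.toAlgebra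
    letI := FlatMod.moduleStalkOver fP F' z
    haveI : IsScalarTower ((Spec P).presheaf.stalk (fP z)) ((U : Scheme.{u}).presheaf.stalk z) (F'.presheaf.stalk z) :=
      .of_algebraMap_smul fun _ _ => rfl
    haveI : IsLocalHom (algebraMap ((Spec P).presheaf.stalk (fP z)) ((U : Scheme.{u}).presheaf.stalk z)) :=
      inferInstanceAs (IsLocalHom (fP.stalkMap z).hom)
    haveI : Module.Finite ((U : Scheme.{u}).presheaf.stalk z) (F'.presheaf.stalk z) :=
      QCoh.finite_stalk_of_isFT (QCoh.isQCoh_of_isFP hF') (QCoh.isFT_of_isFP hF') z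
    haveI : Module.Flat ((Spec P).presheaf.stalk (fP z)) (F'.presheaf.stalk z) := hfP
    letI : Algebra ((Spec P).presheaf.stalk (iS (f' z))) ((U : Scheme.{u}).presheaf.stalk z) := (fP.stalkMap z).hom.toAlgebra
    letI : Module ((Spec P).presheaf.stalk (iS (f' z))) (F'.presheaf.stalk z) := FlatMod.moduleStalkOver fP F' z
    haveI : IsScalarTower ((Spec P).presheaf.stalk (iS (f' z))) ((U : Scheme.{u}).presheaf.stalk z) (F'.presheaf.stalk z) :=
      .of_algebraMap_smul fun _ _ => rfl
    haveI : IsLocalHom (algebraMap ((Spec P).presheaf.stalk (iS (f' z))) ((U : Scheme.{u}).presheaf.stalk z)) :=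
      inferInstanceAs (IsLocalHom (fP.stalkMap z).hom)
    haveI : Module.Flat ((Spec P).presheaf.stalk (iS (f' z))) (F'.presheaf.stalk z) := hfP
    refine injective_of_flat_nontrivial (B := (U : Scheme.{u}).presheaf.stalk z) (M := F'.presheaf.stalk z) a fun m => ?_
    show (fP.stalkMap z).hom a • m = 0
    rw [Scheme.Hom.stalkMap_comp]
    show (f'.stalkMap z).hom ((iS.stalkMap (f' z)).hom a) • m = 0
    rw [ha, map_zero, zero_smul]
  have hbij : Function.Bijective (iS.stalkMap (f' z)).hom := ⟨hinj, iS.stalkMap_surjective _⟩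
  have hfS : FlatMod.IsFlatOverAt f' F' z := by
    rw [← flatQuot_bot_iff]
    exact (flatQuot_comp_iff f' iS F' z hbij.2 (I := ⊥) Ideal.map_bot
      ((RingHom.injective_iff_ker_eq_bot _).1 hinj).le).1 ((flatQuot_bot_iff fP F' z).2 hfP)
  have hgS' : (g'.stalkMap (f' z)).hom.Flat := by
    rw [hgS, Scheme.Hom.stalkMap_comp]
    exact hgP.comp (RingHom.Flat.of_bijective hbij)
  refine ⟨?_, (flatAt_openImmersion w₁ F z).1 hfS⟩
  refine S1386.flat_of_point_eq g ?_ ((S1386.flat_transfer hV.fromSpec hW.fromSpec w₂ (f' z)).1 hgS')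
  rw [← Scheme.Hom.comp_apply, w₁, Scheme.Hom.comp_apply]
  rfl

/-- For a module flat over the base, flatness over `Y` is flatness along the fibres. -/
theorem flatAt_iff_qf {X Y S : Scheme.{u}} (f : X ⟶ Y) (g : Y ⟶ S) [LocallyOfFinitePresentation (f ≫ g)]
    [LocallyOfFiniteType g] (F : X.Modules) (hF : CohB1.IsFP F) (x : X)
    (hfl : FlatMod.IsFlatOverAt (f ≫ g) F x) : FlatMod.IsFlatOverAt f F x ↔ QF f g F x := by
  refine ⟨qf_of_flat f g F x, fun hq => ?_⟩
  rcases subsingleton_or_nontrivial (F.presheaf.stalk x) with hs | hn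
  · letI := FlatMod.moduleStalkOver f F x
    show Module.Flat _ _
    infer_instance
  · exact (criterion f g F hF x hfl hq).2

end Groth.Agent.FibFlatMod
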