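import Mathlib
import Groth.Prelude.Def_CAlgX
import Groth.Agent.QCoh.Stalk

/-!
# Local rings are essentially of finite presentation along morphisms locally of finite presentation
-/

set_option autoImplicit false
set_option linter.style.haveILetI false
set_option backward.isDefEq.respectTransparency false
set_option backward.isDefEq.respectTransparency.types false

universe u

open CategoryTheory Limits AlgebraicGeometry TensorProduct

namespace Groth.Agent.FibFlatMod

theorem isEssFP_localization {A B R T : Type u} [CommRing A] [CommRing B] [CommRing R] [CommRing T]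
    [Algebra A B] [Algebra A R] [Algebra B T] [Algebra R T] [Algebra A T] [IsScalarTower A B T] [IsScalarTower A R T]
    [Algebra.FinitePresentation A B] (M : Submonoid A) [IsLocalization M R] (N : Submonoid B) [IsLocalization N T]
    (h : Algebra.algebraMapSubmonoid B M ≤ N) : CAlgX.IsEssFinitePresentation R T := by
  let M' := Algebra.algebraMapSubmonoid B M
  let B' := Localization M'
  have hu : ∀ m : M, IsUnit (algebraMap A B' m) := fun m => by
    rw [IsScalarTower.algebraMap_apply A B B']
    exact IsLocalization.map_units B' ⟨_, Algebra.mem_algebraMapSubmonoid_of_mem m⟩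
  letI : Algebra R B' := (IsLocalization.lift (S := R) hu).toAlgebra
  haveI : IsScalarTower A R B' := .of_algebraMap_eq fun a => (IsLocalization.lift_eq hu a).symm
  have hu' : ∀ m : M', IsUnit (algebraMap B T m) := fun m => IsLocalization.map_units T ⟨m.1, h m.2⟩
  letI : Algebra B' T := (IsLocalization.lift (S := B') hu').toAlgebra
  haveI : IsScalarTower B B' T := .of_algebraMap_eq fun b => (IsLocalization.lift_eq hu' b).symm
  haveI : Algebra.IsPushout A R B B' := (Algebra.isPushout_of_isLocalization M R B B').symm
  haveI : Algebra.FinitePresentation R B' :=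
    Algebra.FinitePresentation.equiv (Algebra.IsPushout.equiv A R B B')
  haveI : IsScalarTower R B' T := by
    refine .of_algebraMap_eq' (IsLocalization.ringHom_ext M ?_)
    ext a
    show algebraMap R T (algebraMap A R a) = algebraMap B' T (algebraMap R B' (algebraMap A R a))
    rw [← IsScalarTower.algebraMap_apply A R T, ← IsScalarTower.algebraMap_apply A R B',
      IsScalarTower.algebraMap_apply A B B', ← IsScalarTower.algebraMap_apply B B' T,
      ← IsScalarTower.algebraMap_apply A B T]
  exact ⟨B', inferInstance, inferInstance, inferInstance, inferInstance, N.map (algebraMap B B'),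
    inferInstance, IsLocalization.isLocalization_of_submonoid_le (R := B) B' T M' N h⟩

/-- The local ring at `x` is essentially of finite presentation over the local ring at the image. -/
theorem isEssFP_stalkMap {X Y : Scheme.{u}} (f : X ⟶ Y) [LocallyOfFinitePresentation f] (x : X) :
    letI := (f.stalkMap x).hom.toAlgebra
    CAlgX.IsEssFinitePresentation (Y.presheaf.stalk (f x)) (X.presheaf.stalk x) := by
  obtain ⟨V, hV, hxV, -⟩ := exists_isAffineOpen_mem_and_subset (U := (⊤ : Y.Opens)) (x := f x) trivial
  obtain ⟨U, hU, hxU, hUV'⟩ := exists_isAffineOpen_mem_and_subset (U := f ⁻¹ᵁ V) (x := x) hxV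
  have hUV : U ≤ f ⁻¹ᵁ V := hUV'
  letI := (f.stalkMap x).hom.toAlgebra
  letI : Algebra Γ(Y, V) Γ(X, U) := (f.appLE V U hUV).hom.toAlgebra
  haveI : Algebra.FinitePresentation Γ(Y, V) Γ(X, U) := f.finitePresentation_appLE hV hU hUV
  letI := QCoh.stalkAlg (X := Y) hxV
  letI := QCoh.stalkAlg (X := X) hxU
  haveI := QCoh.isLocalization_stalk' hV hxV
  haveI := QCoh.isLocalization_stalk' hU hxU
  letI : Algebra Γ(Y, V) (X.presheaf.stalk x) := ((f.appLE V U hUV) ≫ X.presheaf.germ U x hxU).hom.toAlgebra
  haveI : IsScalarTower Γ(Y, V) Γ(X, U) (X.presheaf.stalk x) := .of_algebraMap_eq fun _ => rfl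
  haveI : IsScalarTower Γ(Y, V) (Y.presheaf.stalk (f x)) (X.presheaf.stalk x) := .of_algebraMap_eq fun a => by
    show X.presheaf.germ U x hxU (f.appLE V U hUV a) = f.stalkMap x (Y.presheaf.germ V (f x) hxV a)
    rw [Scheme.Hom.germ_stalkMap_apply]
    exact X.presheaf.germ_res_apply (homOfLE hUV) x hxU _
  refine isEssFP_localization (A := Γ(Y, V)) (B := Γ(X, U)) (hV.primeIdealOf ⟨f x, hxV⟩).asIdeal.primeCompl
    (hU.primeIdealOf ⟨x, hxU⟩).asIdeal.primeCompl ?_
  rintro _ ⟨a, ha, rfl⟩ hmem
  have h1 : IsUnit (algebraMap Γ(Y, V) (X.presheaf.stalk x) a) := by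
    rw [IsScalarTower.algebraMap_apply Γ(Y, V) (Y.presheaf.stalk (f x))]
    exact (IsLocalization.map_units (Y.presheaf.stalk (f x)) (⟨a, ha⟩ : (hV.primeIdealOf ⟨f x, hxV⟩).asIdeal.primeCompl)).map _
  rw [IsScalarTower.algebraMap_apply Γ(Y, V) Γ(X, U)] at h1
  exact (IsLocalization.AtPrime.isUnit_to_map_iff (X.presheaf.stalk x) _ _).1 h1 hmem

end Groth.Agent.FibFlatMod
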