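import Groth.Agent.FibFlatMod.StageGlobal
import Groth.Agent.FibDim.Semicont
import Groth.Agent.FibDim.BaseChange
import Groth.Agent.FibDim.Minimal
import Groth.Agent.LimMod.Functors
import Groth.Agent.S4863
import Groth.Prelude.Def_FlatFun
import Groth.Prelude.Def_FGA

/-!
# Flatness in dimensions `≥ n` descends along limits
-/

set_option autoImplicit false
set_option linter.style.haveILetI false
set_option backward.isDefEq.respectTransparency false
set_option backward.isDefEq.respectTransparency.types false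

universe u

open CategoryTheory CategoryTheory.Limits AlgebraicGeometry Opposite TopologicalSpace

namespace Groth.Agent.FibFlatMod

open Groth.Agent

theorem dimFibresLT_iff {X T : Scheme.{u}} (q : X ⟶ T) [LocallyOfFiniteType q] (n : ℕ) (Z : Set X) :
    FlatFun.DimFibresLT n q Z ↔ ∀ x ∈ Z, FibDim.rd q x < n := by
  refine forall₂_congr fun x _ => ?_
  have h := FibDim.rd_eq_rdeg q x
  rw [VarDim.rdeg] at h
  rw [← h]
  exact Nat.cast_lt

/-- A point in the closure of the points of a closed set with relative degree `≥ n` has such a point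
in its fibre. -/
theorem exists_rd_ge_of_mem_closure {X Y : Scheme.{u}} (f : X ⟶ Y) [LocallyOfFiniteType f] {Z : Set X}
    (hZ : IsClosed Z) (n : ℕ) {x : X} (hx : x ∈ closure {z | z ∈ Z ∧ n ≤ FibDim.rd f z}) :
    ∃ w, w ∈ Z ∧ f w = f x ∧ n ≤ FibDim.rd f w := by
  have hxZ : x ∈ Z := closure_minimal (fun z hz => hz.1) hZ hx
  cases n with
  | zero => exact ⟨x, hxZ, rfl, Nat.zero_le _⟩
  | succ m =>
    by_contra! hc
    obtain ⟨U, hU, hxU, -, hb⟩ := FibDim.exists_open_dim_le f isOpen_univ hZ trivial hxZ m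
      ((FibDim.dim_inter_le_iff f _ isOpen_univ hZ _).2 fun w _ h2 h3 => Nat.le_of_lt_succ (hc w h2 h3))
    obtain ⟨z, hzU, hzZ, hz⟩ := mem_closure_iff.1 hx U hU hxU
    exact absurd ((FibDim.dim_inter_le_iff f _ hU hZ _).1 (hb (f z)) z hzU hzZ rfl) (by omega)

/-- Flatness in dimensions `≥ n` is preserved by base change. -/
theorem rd_lt_bc {X Xi X₀ Y Yi : Scheme.{u}} {v : X ⟶ Xi} {f : X ⟶ Y} {fi : Xi ⟶ Yi}
    {w : Y ⟶ Yi} [LocallyOfFiniteType f] [LocallyOfFiniteType fi] (hc : IsPullback v f fi w)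
    (pX : Xi ⟶ X₀) (qX : X ⟶ X₀) (hq : v ≫ pX = qX) (F₀ : X₀.Modules) (n : ℕ)
    (h : ∀ x, ¬ FlatMod.IsFlatOverAt fi ((Scheme.Modules.pullback pX).obj F₀) x → FibDim.rd fi x < n)
    (x : X) (hx : ¬ FlatMod.IsFlatOverAt f ((Scheme.Modules.pullback qX).obj F₀) x) :
    FibDim.rd f x < n :=
  (FibDim.rd_baseChange_le hc x).trans_lt
    (h (v x) fun h' => hx (isFlatOverAt_bc hc pX qX hq F₀ x h'))

section

variable {I : Type u} [SmallCategory I] [IsCofiltered I]
  (D : I ⥤ Scheme.{u}) (c : Cone D) (hc : IsLimit c)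
  [∀ {i j : I} (φ : i ⟶ j), IsAffineHom (D.map φ)] (i : I)
  {X₀ : Scheme.{u}} (xi : X₀ ⟶ D.obj i) [LocallyOfFinitePresentation xi] [CompactSpace X₀]
  {F₀ : X₀.Modules} (hF₀ : CohB1.IsFP F₀)
  {X : Scheme.{u}} (p : X ⟶ c.pt) (qX : X ⟶ X₀) (hX : IsPullback qX p xi (c.π.app i))

include hc hF₀ hX

/-- Flatness in dimensions `≥ n` over a limit holds at a stage. -/
theorem exists_stage_flat_dim [LocallyOfFiniteType p] [QuasiCompact p] (n : ℕ)
    (h : ∀ x, ¬ FlatMod.IsFlatOverAt p ((Scheme.Modules.pullback qX).obj F₀) x → FibDim.rd p x < n) :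
    ∃ k : Over i, ∀ z : ↥(pullback xi (D.map k.hom)),
      ¬ FlatMod.IsFlatOverAt (pullback.snd xi (D.map k.hom))
          ((Scheme.Modules.pullback (pullback.fst xi (D.map k.hom))).obj F₀) z →
        FibDim.rd (pullback.snd xi (D.map k.hom)) z < n := by
  classical
  by_contra! hne
  let E := MorLib.BC.diag D xi
  let cE := MorLib.BC.cone D xi hX
  haveI : ∀ {a b : Over i} (t : a ⟶ b), IsAffineHom (E.map t) := fun t => inferInstance
  haveI : ∀ k : Over i, LocallyOfFiniteType (pullback.snd xi (D.map k.hom)) := fun k => inferInstance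
  let Z : ∀ k : Over i, Set (E.obj k) := fun k => {z : ↥(pullback xi (D.map k.hom)) |
    ¬ FlatMod.IsFlatOverAt (pullback.snd xi (D.map k.hom))
      ((Scheme.Modules.pullback (pullback.fst xi (D.map k.hom))).obj F₀) z}
  have hZ : ∀ k : Over i, IsClosed (Z k) := fun k =>
    haveI := QCoh.isQCoh_of_isFP (ModStLib.isFP_pullback (pullback.fst xi (D.map k.hom)) hF₀)
    (S4863.result (pullback.snd xi (D.map k.hom)) _
      (ModStLib.isFP_pullback (pullback.fst xi (D.map k.hom)) hF₀)).isClosed_compl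
  have hZmap : ∀ {a b : Over i} (t : a ⟶ b) (z : E.obj a), z ∈ Z a → E.map t z ∈ Z b :=
    fun {a b} t z hz h' => hz (isFlatOverAt_bc (MorLib.BC.isPullback_map D xi t)
      (pullback.fst xi (D.map b.hom)) (pullback.fst xi (D.map a.hom)) (MorLib.BC.map_fst D xi t) F₀ z h')
  let B : ∀ k : Over i, Set (E.obj k) := fun k => {z : ↥(pullback xi (D.map k.hom)) |
    z ∈ Z k ∧ n ≤ FibDim.rd (pullback.snd xi (D.map k.hom)) z}
  have hBmap : ∀ {a b : Over i} (t : a ⟶ b), Set.MapsTo (E.map t) (B a) (B b) :=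
    fun {a b} t z hz => ⟨hZmap t z hz.1,
      hz.2.trans (FibDim.rd_baseChange_le (MorLib.BC.isPullback_map D xi t) z)⟩
  obtain ⟨s, hs⟩ := exists_mem_of_isClosed_of_nonempty E cE (MorLib.BC.isLimitCone D xi hX hc)
    (fun k => closure (B k)) (fun k => isClosed_closure)
    (fun k => by obtain ⟨z, hz⟩ := hne k; exact ⟨z, subset_closure hz⟩)
    (fun k => haveI := MorLib.BC.compactSpace_obj D xi k; isClosed_closure.isCompact)
    (fun {a b} t => (hBmap t).closure (E.map t).continuous)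
  haveI : IsLocallyNoetherian (p.fiber (p s)) :=
    LocallyOfFiniteType.isLocallyNoetherian (p.fiberToSpecResidueField (p s))
  haveI : IsNoetherian (p.fiber (p s)) := { }
  let C : Over i → Closeds (p.fiber (p s)) := fun k =>
    ⟨(p.fiberι (p s) ≫ MorLib.BC.proj D xi hX k) ⁻¹' Z k,
      (hZ k).preimage (p.fiberι (p s) ≫ MorLib.BC.proj D xi hX k).continuous⟩
  haveI : Nonempty (Over i) := ⟨Over.mk (𝟙 i)⟩
  obtain ⟨C₀, ⟨k₀, rfl⟩, hmin⟩ := wellFounded_lt.has_min (Set.range C) (Set.range_nonempty C)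
  have hC : ∀ k, C k₀ ≤ C k := fun k => by
    have hle : ∀ {a b : Over i} (_ : a ⟶ b), C a ≤ C b := fun {a b} t w hw => by
      have := hZmap t _ hw
      show MorLib.BC.proj D xi hX b (p.fiberι (p s) w) ∈ Z b
      have hw' := congr($(cE.w t) (p.fiberι (p s) w))
      exact hw' ▸ this
    obtain ⟨k', t₁, t₂, -⟩ := IsCofilteredOrEmpty.cone_objs k₀ k
    have heq : C k' = C k₀ :=
      (hle t₁).lt_or_eq.resolve_left (hmin _ ⟨k', rfl⟩)
    exact heq ▸ hle t₂
  obtain ⟨w, hwZ, hwp, hwn⟩ := exists_rd_ge_of_mem_closure (pullback.snd xi (D.map k₀.hom)) (hZ k₀) n (hs k₀)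
  obtain ⟨x, hxw, hxp, hxn⟩ := FibDim.exists_rd_baseChange_eq (MorLib.BC.isPullback_proj D xi hX k₀) w (p s)
    (by rw [hwp]; exact congr($(MorLib.BC.proj_snd D xi hX k₀) s))
  obtain ⟨x', rfl⟩ : x ∈ Set.range (p.fiberι (p s)) := by rw [Scheme.Hom.range_fiberι]; exact hxp
  have hxC : x' ∈ C k₀ := show MorLib.BC.proj D xi hX k₀ (p.fiberι (p s) x') ∈ Z k₀ from hxw.symm ▸ hwZ
  have hflat : FlatMod.IsFlatOverAt p ((Scheme.Modules.pullback qX).obj F₀) (p.fiberι (p s) x') := by
    by_contra hnf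
    exact absurd (h _ hnf) (not_lt.2 (hwn.trans_eq hxn.symm))
  obtain ⟨i', φ, Xi, Yi, fi, gi, pY, pX, vY, vX, h1, h2, -, h4, h5, h6, hi'⟩ :=
    exists_stage_flatAt D c hc i xi (𝟙 (D.obj i)) hF₀ p (𝟙 c.pt) (c.π.app i) qX
      (IsPullback.of_vert_isIso ⟨by simp⟩) hX _ hflat
  haveI : IsIso gi := (MorphismProperty.isomorphisms Scheme.{u}).of_isPullback h1
    (inferInstanceAs (IsIso (𝟙 (D.obj i))))
  let k : Over i := Over.mk φ
  have hgp : inv gi ≫ pY = D.map φ := by
    rw [IsIso.inv_comp_eq, ← h1.w, Category.comp_id]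
  let v : pullback xi (D.map φ) ⟶ Xi := h2.lift (pullback.fst _ _) (pullback.snd _ _ ≫ inv gi)
    (by rw [Category.assoc, hgp]; exact pullback.condition)
  have hv : IsPullback v (pullback.snd xi (D.map φ)) fi (inv gi) :=
    IsPullback.of_right (by rw [IsPullback.lift_fst, hgp]; exact IsPullback.of_hasPullback xi (D.map φ))
      (IsPullback.lift_snd _ _ _ _) h2
  have hvX : MorLib.BC.proj D xi hX k ≫ v = vX := by
    apply h2.hom_ext
    · rw [Category.assoc, IsPullback.lift_fst, h5]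
      exact MorLib.BC.proj_fst D xi hX k
    · rw [Category.assoc, IsPullback.lift_snd, ← Category.assoc, h6,
        show MorLib.BC.proj D xi hX k ≫ pullback.snd xi (D.map φ) = p ≫ c.π.app i' from
          MorLib.BC.proj_snd D xi hX k,
        Category.assoc]
      congr 1
      rw [IsIso.comp_inv_eq, h4, Category.id_comp]
  refine hC k hxC (isFlatOverAt_bc hv pX (pullback.fst xi (D.map φ)) (IsPullback.lift_fst _ _ _ _) F₀ _ ?_)
  exact (congr($hvX (p.fiberι (p s) x')) :) ▸ hi'

end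

/-- The functor "flat in dimensions `≥ n`" is limit preserving. -/
theorem isLimitPreserving_flatDim {X S : Scheme.{u}} (f : X ⟶ S) [QuasiCompact f]
    [LocallyOfFinitePresentation f] (F : X.Modules) (hF : CohB1.IsFP F) (n : ℕ) :
    AlgSp.IsLimitPreserving (FlatFun.genPSp S (fun T => FlatFun.DimFibresLT n (PicF.XTproj f T)
        {x | ¬ FlatMod.IsFlatOverAt (PicF.XTproj f T) (FGA.ET f F T) x})) := by
  intro I _ _ D c hc hD hT
  refine ⟨Types.FilteredColimit.isColimitOf _ _ ?_ ?_⟩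
  · rintro ⟨⟨T₀, k, hk⟩⟩
    obtain ⟨i⟩ : Nonempty I := IsCofiltered.nonempty
    let D' : I ⥤ Scheme.{u} := D ⋙ Over.forget S
    haveI : ∀ j, IsAffine (D'.obj j) := hD
    haveI : ∀ {a b : I} (φ : a ⟶ b), IsAffineHom (D'.map φ) := fun φ => isAffineHom_of_isAffine _
    let xi : pullback f (D.obj i).hom ⟶ D'.obj i := pullback.snd f (D.obj i).hom
    haveI : CompactSpace (D'.obj i) := inferInstance
    haveI : CompactSpace ↥(pullback f (D.obj i).hom) := QuasiCompact.compactSpace_of_compactSpace xi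
    let r : pullback f (D.obj i).hom ⟶ X := pullback.fst f (D.obj i).hom
    have hpt : ∀ x, ¬ FlatMod.IsFlatOverAt (pullback.snd f c.pt.hom)
        ((Scheme.Modules.pullback (pullback.fst f c.pt.hom)).obj F) x →
          FibDim.rd (pullback.snd f c.pt.hom) x < n :=
      rd_lt_bc (v := pullback.map f c.pt.hom f T₀.hom (𝟙 X) k.left (𝟙 S) (by simp) (by simp))
        (w := k.left)
        (IsPullback.of_right (by
          rw [pullback.lift_fst, Category.comp_id, Over.w]
          exact IsPullback.of_hasPullback f c.pt.hom) (pullback.lift_snd _ _ _)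
          (IsPullback.of_hasPullback f T₀.hom))
        (pullback.fst f T₀.hom) (pullback.fst f c.pt.hom) (by rw [pullback.lift_fst, Category.comp_id])
        F n ((dimFibresLT_iff _ _ _).1 hk)
    let qX : pullback f c.pt.hom ⟶ pullback f (D.obj i).hom :=
      pullback.map f c.pt.hom f (D.obj i).hom (𝟙 X) (c.π.app i).left (𝟙 S) (by simp) (by simp)
    have hX : IsPullback qX (pullback.snd f c.pt.hom) xi (((Over.forget S).mapCone c).π.app i) := by
      refine IsPullback.of_right ?_ (pullback.lift_snd _ _ _) (IsPullback.of_hasPullback f (D.obj i).hom)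
      rw [pullback.lift_fst, Category.comp_id, Functor.mapCone_π_app, Over.forget_map, Over.w]
      exact IsPullback.of_hasPullback f c.pt.hom
    haveI : LocallyOfFiniteType (pullback.snd f c.pt.hom) := inferInstance
    obtain ⟨j, hj⟩ := exists_stage_flat_dim D' ((Over.forget S).mapCone c) hc i xi
      (ModStLib.isFP_pullback r hF) (pullback.snd f c.pt.hom) qX hX n (fun x hx => hpt x fun h' => hx
        (GrFlat5.isFlatOverAt_of_iso _ ((Scheme.Modules.pullbackComp qX r).app F ≪≫
          (Scheme.Modules.pullbackCongr (by rw [pullback.lift_fst, Category.comp_id])).app F).symm x h'))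
    have sq : IsPullback (pullback.fst xi (D'.map j.hom) ≫ r) (pullback.snd xi (D'.map j.hom)) f
        (D.obj j.left).hom := by
      have := (IsPullback.of_hasPullback xi (D'.map j.hom)).paste_horiz (IsPullback.of_hasPullback f (D.obj i).hom)
      rwa [show D'.map j.hom ≫ (D.obj i).hom = (D.obj j.left).hom from Over.w (D.map j.hom)] at this
    have h1 : FlatFun.DimFibresLT n (PicF.XTproj f (D.obj j.left))
        {x | ¬ FlatMod.IsFlatOverAt (PicF.XTproj f (D.obj j.left)) (FGA.ET f F (D.obj j.left)) x} :=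
      (dimFibresLT_iff _ _ _).2 (rd_lt_bc (v := sq.isoPullback.inv) (w := 𝟙 _)
        (IsPullback.of_horiz_isIso ⟨by rw [Category.comp_id]; exact sq.isoPullback_inv_snd⟩)
        (pullback.fst xi (D'.map j.hom) ≫ r) (pullback.fst f (D.obj j.left).hom)
        sq.isoPullback_inv_fst F n fun x hx => hj x fun h' => hx
          (GrFlat5.isFlatOverAt_of_iso _ ((Scheme.Modules.pullbackComp _ r).app F) x h'))
    exact ⟨op j.left, ⟨⟨D.obj j.left, 𝟙 _, h1⟩⟩, @Subsingleton.elim _ (FlatFun.genPSp_subsingleton _ _ _) _ _⟩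
  · intro a b xa xb _
    obtain ⟨l, f₁, f₂, -⟩ := IsFilteredOrEmpty.cocone_objs a b
    exact ⟨l, f₁, f₂, @Subsingleton.elim _ (FlatFun.genPSp_subsingleton _ _ _) _ _⟩

end Groth.Agent.FibFlatMod
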