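import Groth.Agent.FibFlatMod.Coker
import Groth.Agent.QCoh.CokerQC
import Groth.Agent.QCoh.FlatOver
import Groth.Agent.LimMod.FPExtend
import Groth.Agent.LimMod.Descend
import Groth.Agent.FlatSyz5.Basic
import Groth.Agent.S4863

/-!
# The locus where a map is injective with flat cokernel is open
-/

set_option autoImplicit false
set_option linter.style.haveILetI false
set_option backward.isDefEq.respectTransparency false
set_option backward.isDefEq.respectTransparency.types false

universe u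

open CategoryTheory Limits AlgebraicGeometry TensorProduct Groth.Agent.QCoh

namespace Groth.Agent.FibFlatMod

variable {X Y : Scheme.{u}}

/-- Maps of quasi-coherent modules have the localisation properties. -/
theorem locRange_of_isQCoh {A B : X.Modules} (hA : Coh.IsQCoh A) (hB : Coh.IsQCoh B) (α : A ⟶ B) :
    QCoh.LocRange α where
  surj V hV g y := by
    obtain ⟨n, z, hz⟩ := QCoh.exists_pow_smul_eq_map hB hV g y
    refine ⟨n, z, 0, ?_⟩
    rw [map_zero]
    exact (sub_eq_zero.2 hz).symm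
  inj V hV g z a h := by
    obtain ⟨n, a', ha'⟩ := QCoh.exists_pow_smul_eq_map hA hV g a
    have h0 : B.presheaf.map (homOfLE (X.basicOpen_le g)).op (α.app V a' - g ^ n • z) = 0 := by
      rw [map_sub, ← QCoh.map_app_comm, ha', Scheme.Modules.Hom.app_smul, QCoh.map_smul', map_pow, h]
      exact sub_self _
    obtain ⟨m, hm⟩ := QCoh.exists_pow_smul_eq_zero hB hV g _ h0
    refine ⟨m + n, g ^ m • a', ?_⟩
    rw [smul_sub, sub_eq_zero] at hm
    rw [Scheme.Modules.Hom.app_smul, pow_add, mul_smul]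
    exact hm

/-- A map with flat cokernel of finite presentation has finitely generated kernel. -/
theorem fg_ker_of_flat_coker {A B M N C : Type u} [CommRing A] [CommRing B] [Algebra A B]
    [Algebra.FinitePresentation A B] [AddCommGroup M] [Module B M] [Module.Finite B M]
    [AddCommGroup N] [Module B N] [Module.FinitePresentation B N] [AddCommGroup C] [Module A C] [Module B C]
    [IsScalarTower A B C] [Module.FinitePresentation B C] [Module.Flat A C]
    (l : M →ₗ[B] N) (q : N →ₗ[B] C) (hex : Function.Exact l q) (hq : Function.Surjective q) :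
    (LinearMap.ker l).FG := by
  obtain ⟨a, ρ, hρ⟩ := Module.Finite.exists_fin' B N
  let π := q ∘ₗ ρ
  haveI := FlatSyz5.fp_ker (A := A) π (hq.comp hρ)
  haveI : Module.FinitePresentation B (LinearMap.range l) := by
    let r : LinearMap.ker π →ₗ[B] LinearMap.range l :=
      (ρ ∘ₗ (LinearMap.ker π).subtype).codRestrict _ fun v => LinearMap.mem_range.2 ((hex _).1 v.2)
    refine Module.finitePresentation_of_surjective r (fun y => ?_) ?_
    · obtain ⟨v, hv⟩ := hρ y.1
      exact ⟨⟨v, (hex _).2 (LinearMap.mem_range.1 (hv ▸ y.2))⟩, Subtype.ext hv⟩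
    · refine Submodule.fg_of_fg_map_injective _ (Submodule.injective_subtype _) ?_
      suffices h : (LinearMap.ker r).map (LinearMap.ker π).subtype = LinearMap.ker ρ from
        h ▸ Module.FinitePresentation.fg_ker ρ hρ
      ext v
      constructor
      · rintro ⟨w, hw, rfl⟩
        exact congrArg Subtype.val hw
      · intro hv
        exact ⟨⟨v, by show q (ρ v) = 0; rw [LinearMap.mem_ker.1 hv, map_zero]⟩, Subtype.ext hv, rfl⟩
  rw [← LinearMap.ker_rangeRestrict]
  exact Module.FinitePresentation.fg_ker l.rangeRestrict l.surjective_rangeRestrict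

theorem stalkLin_germ {F F' : X.Modules} (u : F' ⟶ F) {U : X.Opens} {y : X} (hy : y ∈ U) (s : Γ(F', U)) :
    stalkLin u y (QCoh.germLin F' hy s) = QCoh.germLin F hy (u.app U s) :=
  TopCat.Presheaf.stalkFunctor_map_germ_apply U y hy (Scheme.Modules.Hom.mapPresheaf u) s

/-- The points at which a map is injective with flat cokernel form an open set. -/
theorem isOpen_inj_coker_flat (f : X ⟶ Y) [LocallyOfFinitePresentation f] {F F' : X.Modules}
    (hF : CohB1.IsFP F) (hF' : CohB1.IsFP F') (u : F' ⟶ F) :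
    IsOpen {x : X | Function.Injective (stalkLin u x) ∧ FlatMod.IsFlatOverAt f (cokernel u) x} := by
  classical
  have hFq := QCoh.isQCoh_of_isFP hF
  have hF'q := QCoh.isQCoh_of_isFP hF'
  have hC : CohB1.IsFP (cokernel u) := LimMod.isFP_cokernel hF'q (QCoh.isFT_of_isFP hF') hF u
  haveI hCq := QCoh.isQCoh_of_isFP hC
  rw [isOpen_iff_forall_mem_open]
  intro x hx
  obtain ⟨V, hV, hxV, -⟩ := exists_isAffineOpen_mem_and_subset (U := (⊤ : Y.Opens)) (x := f x) trivial
  obtain ⟨U, hU, hxU, hsub⟩ := exists_isAffineOpen_mem_and_subset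
    (U := f ⁻¹ᵁ V ⊓ (⟨_, S4863.result f (cokernel u) hC⟩ : X.Opens)) (x := x) ⟨hxV, hx.2⟩
  have hUV : U ≤ f ⁻¹ᵁ V := fun z hz => (hsub hz).1
  letI : Algebra Γ(Y, V) Γ(X, U) := (f.appLE V U hUV).hom.toAlgebra
  letI : Module Γ(Y, V) Γ(cokernel u, U) := Module.compHom _ (f.appLE V U hUV).hom
  haveI : IsScalarTower Γ(Y, V) Γ(X, U) Γ(cokernel u, U) := .of_algebraMap_smul fun _ _ => rfl
  haveI : Algebra.FinitePresentation Γ(Y, V) Γ(X, U) := f.finitePresentation_appLE hV hU hUV
  haveI : Module.FinitePresentation Γ(X, U) Γ(F, U) := QCoh.finitePresentation_of_isFP hF hU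
  haveI : Module.FinitePresentation Γ(X, U) Γ(F', U) := QCoh.finitePresentation_of_isFP hF' hU
  haveI : Module.FinitePresentation Γ(X, U) Γ(cokernel u, U) := QCoh.finitePresentation_of_isFP hC hU
  haveI : Module.Flat Γ(Y, V) Γ(cokernel u, U) :=
    (QCoh.flat_appLE_iff f hCq hU hV hUV).2 fun y hy => (hsub hy).2
  let l := QCoh.appLin u U
  have hR := locRange_of_isQCoh hF'q hFq u
  have hex : Function.Exact l (QCoh.appLin (cokernel.π u) U) := fun z =>
    ⟨fun hz => hR.mem_range hU z hz, by rintro ⟨a, rfl⟩; exact QCoh.cokernel_π_app_app a⟩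
  obtain ⟨G, hG⟩ := fg_ker_of_flat_coker (A := Γ(Y, V)) l _ hex (hR.surjective hU)
  -- an element invertible at `x` killing the kernel
  letI := QCoh.stalkModule F' hxU
  haveI := QCoh.isLocalizedModule_germLin hF'q hU hxU
  have hkill : ∀ z ∈ G, ∃ s : (hU.primeIdealOf ⟨x, hxU⟩).asIdeal.primeCompl, s • z = 0 := by
    intro z hz
    refine (IsLocalizedModule.eq_zero_iff _ (QCoh.germLin F' hxU)).1 (hx.1 ?_)
    rw [stalkLin_germ, map_zero, show u.app U z = 0 from hG.le (Submodule.subset_span hz), map_zero]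
  choose s hs using hkill
  let g : Γ(X, U) := ∏ z ∈ G.attach, (s z.1 z.2 : Γ(X, U))
  have hgx : g ∈ (hU.primeIdealOf ⟨x, hxU⟩).asIdeal.primeCompl :=
    Submonoid.prod_mem _ fun (z : {w // w ∈ G}) _ => (s z.1 z.2).2
  have hgkill : ∀ z ∈ LinearMap.ker l, g • z = 0 := by
    intro z hz
    rw [← hG] at hz
    induction hz using Submodule.span_induction with
    | mem z hz =>
      obtain ⟨c, hc⟩ : (s z hz : Γ(X, U)) ∣ g :=
        Finset.dvd_prod_of_mem (fun w : {w // w ∈ G} => (s w.1 w.2 : Γ(X, U))) (Finset.mem_attach G ⟨z, hz⟩)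
      rw [hc, mul_comm, mul_smul, show (s z hz : Γ(X, U)) • z = 0 from hs z hz, smul_zero]
    | zero => exact smul_zero _
    | add a b _ _ ha hb => rw [smul_add, ha, hb, add_zero]
    | smul c a _ ha => rw [smul_comm, ha, smul_zero]
  have hb : ∀ y (hy : y ∈ U), y ∈ X.basicOpen g ↔ g ∉ (hU.primeIdealOf ⟨y, hy⟩).asIdeal := by
    intro y hy
    have hy' := hU.fromSpec_primeIdealOf ⟨y, hy⟩
    have h2 := SetLike.ext_iff.1 (hU.fromSpec_preimage_basicOpen g) (hU.primeIdealOf ⟨y, hy⟩)
    change hU.fromSpec (hU.primeIdealOf ⟨y, hy⟩) = y at hy'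
    change hU.fromSpec (hU.primeIdealOf ⟨y, hy⟩) ∈ X.basicOpen g ↔ _ at h2
    rw [hy'] at h2
    exact h2
  refine ⟨X.basicOpen g, fun y hy => ?_, (X.basicOpen g).2, (hb x hxU).2 hgx⟩
  have hyU := X.basicOpen_le g hy
  refine ⟨?_, (hsub hyU).2⟩
  letI := QCoh.stalkAlg (X := X) hyU
  letI := QCoh.stalkModule F' hyU
  letI := QCoh.stalkModule F hyU
  haveI := QCoh.isLocalizedModule_germLin hF'q hU hyU
  haveI := QCoh.isLocalizedModule_germLin hFq hU hyU
  let q := (hU.primeIdealOf ⟨y, hyU⟩).asIdeal.primeCompl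
  refine (injective_iff_map_eq_zero _).2 fun m hm => ?_
  obtain ⟨⟨z, t⟩, e⟩ := IsLocalizedModule.surj q (QCoh.germLin F' hyU) m
  have h1 : QCoh.germLin F hyU (u.app U z) = 0 := by
    rw [← stalkLin_germ, ← e]
    show stalkLin u y (algebraMap Γ(X, U) (X.presheaf.stalk y) t.1 • m) = 0
    rw [map_smul, hm, smul_zero]
  obtain ⟨w, hw⟩ := (IsLocalizedModule.eq_zero_iff q _).1 h1
  have h2 : g • (w : Γ(X, U)) • z = 0 := hgkill _ (by
    rw [LinearMap.mem_ker, map_smul]; exact hw)
  have h3 : QCoh.germLin F' hyU z = 0 :=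
    (IsLocalizedModule.eq_zero_iff q _).2 ⟨⟨g, (hb y hyU).1 hy⟩ * w, by
      show (g * (w : Γ(X, U))) • z = 0
      rw [mul_smul]; exact h2⟩
  rw [h3] at e
  obtain ⟨c, hc⟩ := IsLocalizedModule.map_units (QCoh.germLin F' hyU) t
  exact ((Module.End.isUnit_iff _).1 ⟨c, hc⟩).1 (e.trans (map_zero _).symm)

end Groth.Agent.FibFlatMod
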