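import Groth.Agent.FibFlat.Local
import Groth.Agent.NFlat6.Hironaka
import Groth.Agent.KFlatLib.Scheme.Pullback

/-!
# Quotients of stalks of modules along maps with surjective stalk maps
-/

set_option autoImplicit false
set_option linter.style.haveILetI false
set_option backward.isDefEq.respectTransparency false
set_option backward.isDefEq.respectTransparency.types false

universe u

open CategoryTheory Limits AlgebraicGeometry IsLocalRing TensorProduct
open Groth.Agent.FibFlat

namespace Groth.Agent.FibFlatMod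

/-- `M/IM` over `B/I` only depends on surjective images of `B` and `M` with kernels inside `I`. -/
theorem flat_quot_iff {B B' M M' : Type u} [CommRing B] [CommRing B'] [AddCommGroup M] [Module B M]
    [AddCommGroup M'] [Module B' M'] (β : B →+* B') (hβ : Function.Surjective β) (q : M →+ M')
    (hq : Function.Surjective q) (hlin : ∀ b m, q (b • m) = β b • q m) {I : Ideal B} {I' : Ideal B'}
    (hI : I.map β = I') (hker : RingHom.ker β ≤ I) (hq0 : ∀ m, q m = 0 → m ∈ I • (⊤ : Submodule B M)) :
    Module.Flat (B ⧸ I) (M ⧸ (I • ⊤ : Submodule B M)) ↔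
      Module.Flat (B' ⧸ I') (M' ⧸ (I' • ⊤ : Submodule B' M')) := by
  have hcom : I'.comap β = I := by
    rw [← hI, Ideal.comap_map_of_surjective β hβ, sup_eq_left]
    exact hker
  let σ : B ⧸ I ≃+* B' ⧸ I' := RingEquiv.ofBijective (Ideal.quotientMap I' β hcom.ge)
    ⟨Ideal.quotientMap_injective' hcom.le, Ideal.quotientMap_surjective hβ⟩
  letI : Module B M' := Module.compHom M' β
  let ql : M →ₗ[B] M' := { toFun := q, map_add' := q.map_add, map_smul' := hlin }
  have mem : ∀ n ∈ (I' • ⊤ : Submodule B' M'), ∃ m ∈ (I • ⊤ : Submodule B M), q m = n := by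
    intro n hn
    induction hn using Submodule.smul_induction_on' with
    | smul a ha x _ =>
      obtain ⟨b, rfl⟩ := hβ a
      obtain ⟨m, rfl⟩ := hq x
      exact ⟨b • m, Submodule.smul_mem_smul (hcom.le ha) Submodule.mem_top, hlin b m⟩
    | add x _ y _ hx hy =>
      obtain ⟨a, ha, rfl⟩ := hx; obtain ⟨b, hb, rfl⟩ := hy
      exact ⟨a + b, add_mem ha hb, map_add q a b⟩
  have map : ∀ m ∈ (I • ⊤ : Submodule B M), q m ∈ (I' • ⊤ : Submodule B' M') := by
    intro m hm
    induction hm using Submodule.smul_induction_on' with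
    | smul a ha x _ => exact hlin a x ▸ Submodule.smul_mem_smul (hcom.ge ha) Submodule.mem_top
    | add x _ y _ hx hy => rw [map_add]; exact add_mem hx hy
  let ψ : M ⧸ (I • ⊤ : Submodule B M) →+ M' ⧸ (I' • ⊤ : Submodule B' M') :=
    QuotientAddGroup.map (I • ⊤ : Submodule B M).toAddSubgroup (I' • ⊤ : Submodule B' M').toAddSubgroup q
      fun m hm => map m hm
  have hψ : ∀ m, ψ (Submodule.Quotient.mk m) = Submodule.Quotient.mk (q m) := fun _ => rfl
  let e : (M ⧸ (I • ⊤ : Submodule B M)) ≃+ (M' ⧸ (I' • ⊤ : Submodule B' M')) := AddEquiv.ofBijective ψ <| by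
    refine ⟨(injective_iff_map_eq_zero ψ).2 fun z hz => ?_, fun z => ?_⟩
    · obtain ⟨m, rfl⟩ := Submodule.Quotient.mk_surjective _ z
      obtain ⟨n, hn, e⟩ := mem _ ((Submodule.Quotient.mk_eq_zero _).1 ((hψ m).symm.trans hz))
      refine (Submodule.Quotient.mk_eq_zero _).2 ?_
      rw [← sub_add_cancel m n]
      exact add_mem (hq0 _ (by rw [map_sub, e, sub_self])) hn
    · obtain ⟨n, rfl⟩ := Submodule.Quotient.mk_surjective _ z
      obtain ⟨m, rfl⟩ := hq n
      exact ⟨_, hψ m⟩
  have he : ∀ t x, e (t • x) = σ t • e x := by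
    intro t x
    obtain ⟨b, rfl⟩ := Ideal.Quotient.mk_surjective t
    obtain ⟨m, rfl⟩ := Submodule.Quotient.mk_surjective _ x
    show ψ (Submodule.Quotient.mk (b • m)) = _
    rw [hψ, hlin]
    rfl
  constructor
  · intro h
    exact NFlat6.flat_of_semilinear σ e he
  · intro h
    refine NFlat6.flat_of_semilinear σ.symm e.symm fun t x => e.injective ?_
    rw [he, σ.apply_symm_apply, e.apply_symm_apply, e.apply_symm_apply]

variable {X Y S : Scheme.{u}}

/-- `F_x / I F_x` is flat over `O_{Y, f x} / I`. -/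
def FlatQuot (f : X ⟶ Y) (F : X.Modules) (x : X) (I : Ideal (Y.presheaf.stalk (f x))) : Prop :=
  letI := FlatMod.moduleStalkOver f F x
  Module.Flat (Y.presheaf.stalk (f x) ⧸ I)
    (F.presheaf.stalk x ⧸ (I • (⊤ : Submodule (Y.presheaf.stalk (f x)) (F.presheaf.stalk x))))

theorem flatQuot_bot_iff (f : X ⟶ Y) (F : X.Modules) (x : X) :
    FlatQuot f F x ⊥ ↔ FlatMod.IsFlatOverAt f F x := by
  letI := FlatMod.moduleStalkOver f F x
  let σ : Y.presheaf.stalk (f x) ≃+* Y.presheaf.stalk (f x) ⧸ (⊥ : Ideal (Y.presheaf.stalk (f x))) :=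
    (RingEquiv.quotientBot _).symm
  let M := F.presheaf.stalk x
  let N := ((⊥ : Ideal (Y.presheaf.stalk (f x))) • ⊤ : Submodule (Y.presheaf.stalk (f x)) M)
  let e : M ≃+ M ⧸ N := (Submodule.quotEquivOfEqBot N (by simp [N])).symm.toAddEquiv
  have he : ∀ t m, e (t • m) = σ t • e m := fun t m => rfl
  constructor
  · intro h
    haveI : Module.Flat (Y.presheaf.stalk (f x) ⧸ (⊥ : Ideal (Y.presheaf.stalk (f x)))) (M ⧸ N) := h
    exact NFlat6.flat_of_semilinear σ.symm e.symm fun t m => e.injective (by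
      rw [he, σ.apply_symm_apply, e.apply_symm_apply, e.apply_symm_apply])
  · intro h
    haveI : Module.Flat (Y.presheaf.stalk (f x)) M := h
    exact NFlat6.flat_of_semilinear σ e he

/-- The stalk quotient along a square of maps with surjective stalk maps. -/
theorem flatQuot_pullback_iff {U V : Scheme.{u}} {f' : U ⟶ V} {f : X ⟶ Y} {jX : U ⟶ X} {jY : V ⟶ Y}
    (w : f' ≫ jY = jX ≫ f) (F : X.Modules) (z : U) (hy : jY (f' z) = f (jX z))
    (hX : Function.Surjective (jX.stalkMap z).hom) (hY : Function.Surjective (sm jY (f' z) _ hy))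
    {I : Ideal (Y.presheaf.stalk (f (jX z)))} {I' : Ideal (V.presheaf.stalk (f' z))}
    (hI : I.map (sm jY (f' z) _ hy) = I') (hkY : RingHom.ker (sm jY (f' z) _ hy) ≤ I)
    (hkX : RingHom.ker (jX.stalkMap z).hom ≤ I.map (f.stalkMap (jX z)).hom) :
    FlatQuot f F (jX z) I ↔ FlatQuot f' ((Scheme.Modules.pullback jX).obj F) z I' := by
  let A := X.presheaf.stalk (jX z)
  let L := U.presheaf.stalk z
  let M := F.presheaf.stalk (jX z)
  let M' := ((Scheme.Modules.pullback jX).obj F).presheaf.stalk z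
  letI : Algebra A L := (jX.stalkMap z).hom.toAlgebra
  letI := FlatMod.moduleStalkOver f F (jX z)
  letI := FlatMod.moduleStalkOver f' ((Scheme.Modules.pullback jX).obj F) z
  let e₀ : M' ≃ₗ[L] L ⊗[A] M := ((KFlatLib.stalkPullbackIso jX z).app F).toLinearEquiv
  let q : M →+ M' := (e₀.symm.toLinearMap.toAddMonoidHom).comp (TensorProduct.mk A L M 1).toAddMonoidHom
  have hsurj : Function.Surjective (TensorProduct.mk A L M 1) := by
    intro t
    induction t using TensorProduct.induction_on with
    | zero => exact ⟨0, map_zero _⟩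
    | add a b ha hb =>
      obtain ⟨a', rfl⟩ := ha; obtain ⟨b', rfl⟩ := hb
      exact ⟨a' + b', map_add _ _ _⟩
    | tmul l m =>
      obtain ⟨a, rfl⟩ := hX l
      refine ⟨a • m, ?_⟩
      show (1 : L) ⊗ₜ[A] (a • m) = _
      rw [← TensorProduct.smul_tmul, Algebra.smul_def, mul_one]
      rfl
  have hcomm : (f'.stalkMap z).hom.comp (sm jY (f' z) _ hy) = (jX.stalkMap z).hom.comp (f.stalkMap (jX z)).hom := by
    rw [← sm_self f', ← sm_self jX, ← sm_self f, ← sm_comp f' jY z (f' z) (f (jX z)) rfl hy,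
      ← sm_comp jX f z (jX z) (f (jX z)) rfl rfl]
    exact sm_congr w _ _ _
  refine flat_quot_iff (sm jY (f' z) _ hy) hY q (e₀.symm.surjective.comp hsurj) ?_ hI hkY ?_
  · intro b m
    show e₀.symm ((1 : L) ⊗ₜ[A] ((f.stalkMap (jX z)).hom b • m)) =
      (f'.stalkMap z).hom (sm jY (f' z) _ hy b) • e₀.symm ((1 : L) ⊗ₜ[A] m)
    rw [← map_smul e₀.symm, show (f'.stalkMap z).hom (sm jY (f' z) _ hy b) =
      (jX.stalkMap z).hom ((f.stalkMap (jX z)).hom b) from RingHom.congr_fun hcomm b,
      TensorProduct.smul_tmul', ← TensorProduct.smul_tmul]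
    congr 2
  · intro m hm
    have h1 : (1 : L) ⊗ₜ[A] m = 0 := e₀.symm.injective (hm.trans (map_zero _).symm)
    let J := RingHom.ker (jX.stalkMap z).hom
    let el : (A ⧸ J) ≃ₗ[A] L :=
      (Ideal.quotientKerAlgEquivOfSurjective (f := Algebra.ofId A L) hX).toLinearEquiv
    have h2 : (Submodule.Quotient.mk m : M ⧸ (J • ⊤ : Submodule A M)) = 0 := by
      have h3 : (1 : A ⧸ J) ⊗ₜ[A] m = 0 := (TensorProduct.congr el (LinearEquiv.refl A M)).injective (by
        rw [TensorProduct.congr_tmul, map_zero, ← h1]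
        congr 1
        exact map_one (Ideal.quotientKerAlgEquivOfSurjective (f := Algebra.ofId A L) hX))
      have h4 := TensorProduct.quotTensorEquivQuotSMul_mk_tmul J (1 : A) m
      rw [one_smul, map_one, h3, map_zero] at h4
      exact h4.symm
    have h5 : m ∈ (I.map (f.stalkMap (jX z)).hom • ⊤ : Submodule A M) :=
      Submodule.smul_mono hkX le_rfl ((Submodule.Quotient.mk_eq_zero _).1 h2)
    clear h1 h2 hm
    induction h5 using Submodule.smul_induction_on' with
    | smul a ha n _ =>
      revert n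
      induction ha using Submodule.span_induction with
      | mem a ha =>
        obtain ⟨b, hb, rfl⟩ := ha
        intro n _
        exact Submodule.smul_mem_smul (M := M) hb (n := n) Submodule.mem_top
      | zero => intro n _; rw [zero_smul]; exact zero_mem _
      | add a b _ _ ha hb => intro n hn; rw [add_smul]; exact add_mem (ha n hn) (hb n hn)
      | smul c a _ ha => intro n _; rw [smul_eq_mul, mul_comm, mul_smul]; exact ha _ trivial
    | add x _ y _ hx hy => exact add_mem hx hy

end Groth.Agent.FibFlatMod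

namespace Groth.Agent.FibFlatMod

theorem flat_tensorQuot_iff {B M : Type u} [CommRing B] [AddCommGroup M] [Module B M] (I : Ideal B) :
    Module.Flat (B ⧸ I) ((B ⧸ I) ⊗[B] M) ↔ Module.Flat (B ⧸ I) (M ⧸ (I • ⊤ : Submodule B M)) := by
  let e := TensorProduct.quotTensorEquivQuotSMul M I
  have he : ∀ t x, e.toAddEquiv (t • x) = RingEquiv.refl (B ⧸ I) t • e.toAddEquiv x := by
    intro t x
    obtain ⟨b, rfl⟩ := Ideal.Quotient.mk_surjective t
    exact map_smul e b x
  exact ⟨fun h => NFlat6.flat_of_semilinear (RingEquiv.refl _) e.toAddEquiv he,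
    fun h => NFlat6.flat_of_semilinear (RingEquiv.refl _) e.toAddEquiv.symm fun t x =>
      e.toAddEquiv.injective (by simp [he])⟩

/-- Flatness passes to the quotients. -/
theorem flatQuot_of_flatAt {X Y : Scheme.{u}} (f : X ⟶ Y) (F : X.Modules) (x : X)
    (h : FlatMod.IsFlatOverAt f F x) (I : Ideal (Y.presheaf.stalk (f x))) : FlatQuot f F x I := by
  letI := FlatMod.moduleStalkOver f F x
  haveI : Module.Flat (Y.presheaf.stalk (f x)) (F.presheaf.stalk x) := h
  exact (flat_tensorQuot_iff I).1 inferInstance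

end Groth.Agent.FibFlatMod
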