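import Groth.Agent.W4Lib.Flat
import Groth.Agent.MorLib.FlatBC

/-!
# Injectivity with flat cokernel under base change
-/

set_option autoImplicit false
set_option linter.style.haveILetI false
set_option backward.isDefEq.respectTransparency false
set_option backward.isDefEq.respectTransparency.types false

universe u

open TensorProduct

namespace Groth.Agent.FibFlatMod

/-- A sequence `K → Y → Y'` whose cokernel is flat over the base stays exact after base change. -/
theorem exact_lTensor_pushout {T A BT B L K Y Y' C : Type u} [CommRing T] [CommRing A] [CommRing BT] [CommRing B]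
    [CommRing L] [Algebra T A] [Algebra T BT] [Algebra T B] [Algebra A B] [Algebra BT B]
    [IsScalarTower T A B] [IsScalarTower T BT B] [Algebra.IsPushout T A BT B]
    [Algebra B L] [Algebra BT L] [IsScalarTower BT B L] [Module.Flat B L]
    [AddCommGroup K] [Module BT K] [AddCommGroup Y] [Module BT Y] [Module T Y] [IsScalarTower T BT Y]
    [AddCommGroup Y'] [Module BT Y'] [Module T Y'] [IsScalarTower T BT Y']
    [AddCommGroup C] [Module BT C] [Module T C] [IsScalarTower T BT C] [Module.Flat T C]
    (g : K →ₗ[BT] Y) (f : Y →ₗ[BT] Y') (q : Y' →ₗ[BT] C) (hgf : Function.Exact g f) (hfq : Function.Exact f q)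
    (hq : Function.Surjective q) : Function.Exact (g.lTensor L) (f.lTensor L) := by
  letI : Module T K := Module.compHom K (algebraMap T BT)
  haveI : IsScalarTower T BT K := .of_algebraMap_smul fun _ _ => rfl
  -- after tensoring with the new base
  have h1 : Function.Exact ((g.restrictScalars T).lTensor A) ((f.restrictScalars T).lTensor A) := by
    let f' := (f.restrictScalars T).rangeRestrict
    have hs : Function.Surjective f' := LinearMap.surjective_rangeRestrict _
    have he : Function.Exact (g.restrictScalars T) f' := fun y =>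
      ⟨fun h => (hgf y).1 (congrArg Subtype.val h), fun h => Subtype.ext ((hgf y).2 h)⟩
    have hι : Function.Exact (LinearMap.range (f.restrictScalars T)).subtype (q.restrictScalars T) := fun y =>
      ⟨fun h => ⟨⟨y, (hfq y).1 h⟩, rfl⟩, fun ⟨z, hz⟩ => (hfq y).2 (hz ▸ z.2)⟩
    have hi := W4Lib.lTensor_injective_of_flat_quotient Subtype.val_injective hι hq A
    have h := lTensor_exact A he hs
    intro z
    rw [← h z, ← hi.eq_iff, map_zero, ← LinearMap.lTensor_comp_apply, LinearMap.subtype_comp_codRestrict]
  -- on the pushout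
  have h2 : Function.Exact (g.baseChange B) (f.baseChange B) := by
    let eK := Algebra.IsPushout.cancelBaseChange T A BT B K
    let eY := Algebra.IsPushout.cancelBaseChange T A BT B Y
    let eY' := Algebra.IsPushout.cancelBaseChange T A BT B Y'
    refine Function.Exact.of_ladder_addEquiv_of_exact (e₁ := eK.symm.toAddEquiv) (e₂ := eY.symm.toAddEquiv)
      (e₃ := eY'.symm.toAddEquiv) (f₁₂ := ((g.restrictScalars T).lTensor A).toAddMonoidHom)
      (f₂₃ := ((f.restrictScalars T).lTensor A).toAddMonoidHom) (g₁₂ := (g.baseChange B).toAddMonoidHom)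
      (g₂₃ := (f.baseChange B).toAddMonoidHom) ?_ ?_ h1 <;>
    · refine AddMonoidHom.ext fun z => ?_
      induction z using TensorProduct.induction_on with
      | zero => simp
      | tmul a m => simp [eK, eY, eY']
      | add x y hx hy => rw [map_add, map_add, hx, hy]
  -- after a flat extension
  have h3 := Module.Flat.lTensor_exact (R := B) L h2
  let eK := AlgebraTensorModule.cancelBaseChange BT B B L K
  let eY := AlgebraTensorModule.cancelBaseChange BT B B L Y
  let eY' := AlgebraTensorModule.cancelBaseChange BT B B L Y'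
  refine Function.Exact.of_ladder_addEquiv_of_exact (e₁ := eK.toAddEquiv) (e₂ := eY.toAddEquiv)
      (e₃ := eY'.toAddEquiv) (f₁₂ := ((g.baseChange B).lTensor L).toAddMonoidHom)
      (f₂₃ := ((f.baseChange B).lTensor L).toAddMonoidHom) (g₁₂ := (g.lTensor L).toAddMonoidHom)
      (g₂₃ := (f.lTensor L).toAddMonoidHom) ?_ ?_ h3 <;>
  · refine AddMonoidHom.ext fun z => ?_
    induction z using TensorProduct.induction_on with
    | zero => simp
    | tmul a w =>
      induction w using TensorProduct.induction_on with
      | zero => simp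
      | tmul b m => simp [eK, eY, eY']
      | add x y hx hy => rw [TensorProduct.tmul_add, map_add, map_add, hx, hy]
    | add x y hx hy => rw [map_add, map_add, hx, hy]

section Good

variable {B₀ M N C : Type u} [CommRing B₀] [AddCommGroup M] [Module B₀ M] [AddCommGroup N] [Module B₀ N]
  [AddCommGroup C] [Module B₀ C]

/-- After tensoring with the local ring `L`, `l` is injective with cokernel flat over `A`. -/
def GoodAt (l : M →ₗ[B₀] N) (C : Type u) [AddCommGroup C] [Module B₀ C] (A L : Type u) [CommRing A] [CommRing L] [Algebra A L] [Algebra B₀ L] :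
    Prop :=
  Function.Injective (l.baseChange L) ∧ Module.Flat A (L ⊗[B₀] C)

/-- `GoodAt` is preserved by base change. -/
theorem GoodAt.baseChange {T A BT B LT L : Type u} [CommRing T] [CommRing A] [CommRing BT] [CommRing B]
    [CommRing LT] [CommRing L] [Algebra T A] [Algebra T BT] [Algebra T B] [Algebra A B] [Algebra BT B]
    [IsScalarTower T A B] [IsScalarTower T BT B] [Algebra.IsPushout T A BT B]
    [Algebra BT LT] [Algebra T LT] [IsScalarTower T BT LT] (S : Submonoid BT) [IsLocalization S LT]
    [Algebra B L] [Algebra BT L] [IsScalarTower BT B L] [Module.Flat B L] [Algebra A L] [IsScalarTower A B L]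
    [Algebra LT L] [IsScalarTower BT LT L]
    [Algebra B₀ LT] [Algebra B₀ L] [IsScalarTower B₀ LT L]
    (l : M →ₗ[B₀] N) (q : N →ₗ[B₀] C) (hlq : Function.Exact l q) (hq : Function.Surjective q)
    (h : GoodAt l C T LT) : GoodAt l C A L := by
  obtain ⟨hinj, hflat⟩ := h
  haveI := IsLocalization.tensorProduct_compatibleSMul S LT L (LT ⊗[B₀] M)
  haveI := IsLocalization.tensorProduct_compatibleSMul S LT L (LT ⊗[B₀] N)
  refine ⟨?_, ?_⟩
  · let f : LT ⊗[B₀] M →ₗ[LT] LT ⊗[B₀] N := l.baseChange LT
    let e (P : Type u) [AddCommGroup P] [Module B₀ P]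
        [CompatibleSMul BT LT L (LT ⊗[B₀] P)] : L ⊗[BT] (LT ⊗[B₀] P) ≃ₗ[L] L ⊗[B₀] P :=
      (equivOfCompatibleSMul BT LT L L (LT ⊗[B₀] P)).symm ≪≫ₗ AlgebraTensorModule.cancelBaseChange B₀ LT L L P
    have h0 := exact_lTensor_pushout (T := T) (A := A) (B := B) (L := L)
      (0 : LT ⊗[B₀] M →ₗ[BT] LT ⊗[B₀] M) (f.restrictScalars BT) ((q.baseChange LT).restrictScalars BT)
      (fun y => ⟨fun hy => ⟨0, (hinj (hy.trans (map_zero _).symm)).symm⟩, fun ⟨_, hy⟩ => hy ▸ map_zero _⟩)
      (lTensor_exact LT hlq hq) (LinearMap.lTensor_surjective LT hq)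
    rw [LinearMap.lTensor_zero] at h0
    have h1 : Function.Injective ((f.restrictScalars BT).lTensor L) :=
      (injective_iff_map_eq_zero _).2 fun z hz => let ⟨_, hw⟩ := (h0 z).1 hz; hw.symm
    have hcomm : ∀ z, l.baseChange L (e M z) = e N ((f.restrictScalars BT).lTensor L z) := by
      intro z
      induction z using TensorProduct.induction_on with
      | zero => simp
      | tmul a w =>
        induction w using TensorProduct.induction_on with
        | zero => simp
        | tmul b m => simp [e, f, equivOfCompatibleSMul]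
        | add x y hx hy => simp only [TensorProduct.tmul_add, map_add, hx, hy]
      | add x y hx hy => simp only [map_add, hx, hy]
    intro x y hxy
    obtain ⟨x, rfl⟩ := (e M).surjective x
    obtain ⟨y, rfl⟩ := (e M).surjective y
    rw [hcomm, hcomm] at hxy
    exact congrArg _ (h1 ((e N).injective hxy))
  · haveI : Module.Flat A (B ⊗[BT] (LT ⊗[B₀] C)) := MorLib.FlatBC.flat_pushout_tensor (R := T)
    haveI : Module.Flat A (L ⊗[B] (B ⊗[BT] (LT ⊗[B₀] C))) := MorLib.FlatBC.flat_tensor_of_flat
    haveI := IsLocalization.tensorProduct_compatibleSMul S LT L (LT ⊗[B₀] C)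
    exact Module.Flat.of_linearEquiv
      ((AlgebraTensorModule.cancelBaseChange BT B L L (LT ⊗[B₀] C) ≪≫ₗ
        (equivOfCompatibleSMul BT LT L L (LT ⊗[B₀] C)).symm ≪≫ₗ
        AlgebraTensorModule.cancelBaseChange B₀ LT L L C).restrictScalars A).symm

end Good

end Groth.Agent.FibFlatMod
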