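import Groth.Agent.FibFlatMod.Stage
import Groth.Agent.FibFlatMod.FPFlat
import Groth.Agent.FibFlatMod.Openness

/-!
# Injectivity with flat cokernel descends to a finitely presented algebra
-/

set_option autoImplicit false
set_option linter.style.haveILetI false
set_option backward.isDefEq.respectTransparency false
set_option backward.isDefEq.respectTransparency.types false

universe u

open TensorProduct

namespace Groth.Agent.FibFlatMod

attribute [local instance] Algebra.TensorProduct.rightAlgebra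

/-- Localising away from an element commutes with base change. -/
theorem isPushout_away {T T' BT BT' Bg Bg' : Type u} [CommRing T] [CommRing T'] [CommRing BT] [CommRing BT']
    [CommRing Bg] [CommRing Bg'] [Algebra T T'] [Algebra T BT] [Algebra T BT'] [Algebra T' BT'] [Algebra BT BT']
    [IsScalarTower T T' BT'] [IsScalarTower T BT BT'] [Algebra.IsPushout T T' BT BT']
    (g : BT) [Algebra BT Bg] [IsLocalization.Away g Bg] [Algebra T Bg] [IsScalarTower T BT Bg]
    [Algebra BT' Bg'] [IsLocalization.Away (algebraMap BT BT' g) Bg'] [Algebra Bg Bg'] [Algebra BT Bg']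
    [IsScalarTower BT Bg Bg'] [IsScalarTower BT BT' Bg'] [Algebra T' Bg'] [IsScalarTower T' BT' Bg']
    [Algebra T Bg'] [IsScalarTower T T' Bg'] [IsScalarTower T Bg Bg'] : Algebra.IsPushout T T' Bg Bg' := by
  haveI : IsLocalization (Algebra.algebraMapSubmonoid BT' (Submonoid.powers g)) Bg' := by
    rw [Algebra.algebraMapSubmonoid, Submonoid.map_powers]
    assumption
  haveI h : Algebra.IsPushout BT BT' Bg Bg' := Algebra.isPushout_of_isLocalization (Submonoid.powers g) Bg BT' Bg'
  haveI : IsScalarTower T BT' Bg' := .of_algebraMap_eq fun t => by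
    rw [IsScalarTower.algebraMap_apply T T' BT', ← IsScalarTower.algebraMap_apply T' BT' Bg',
      ← IsScalarTower.algebraMap_apply T T' Bg']
  haveI h1 : Algebra.IsPushout T BT T' BT' := Algebra.IsPushout.symm inferInstance
  exact ((Algebra.IsPushout.comp_iff (R := T) (S := BT) (R' := T') (S' := BT') (T := Bg) (T' := Bg')).2 h.symm).symm

/-- An element of a pushout comes from a finitely presented stage. -/
theorem exists_stage_elem {A₀ T A B₀ B : Type u} [CommRing A₀] [CommRing T] [CommRing A] [CommRing B₀] [CommRing B]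
    [Algebra A₀ T] [Algebra A₀ A] [Algebra A₀ B₀] [Algebra A₀ B] [Algebra T A] [IsScalarTower A₀ T A]
    [Algebra A B] [Algebra B₀ B] [IsScalarTower A₀ A B] [IsScalarTower A₀ B₀ B] [Algebra.IsPushout A₀ A B₀ B]
    (u : B) :
    ∃ (t : Finset A) (u' : MvPolynomial t T ⊗[A₀] B₀),
      Algebra.TensorProduct.lift
        ((IsScalarTower.toAlgHom A₀ A B).comp ((MvPolynomial.aeval (Subtype.val : t → A)).restrictScalars A₀))
        (IsScalarTower.toAlgHom A₀ B₀ B) (fun _ _ => Commute.all _ _) u' = u := by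
  classical
  obtain ⟨S, hS⟩ := TensorProduct.exists_finset ((Algebra.IsPushout.equiv A₀ A B₀ B).symm u)
  refine ⟨S.image Prod.fst,
    ∑ i ∈ S.attach, MvPolynomial.X ⟨i.1.1, Finset.mem_image_of_mem _ i.2⟩ ⊗ₜ i.1.2, ?_⟩
  have h := congrArg (Algebra.IsPushout.equiv A₀ A B₀ B) hS
  rw [AlgEquiv.apply_symm_apply, map_sum] at h
  rw [map_sum, h, ← Finset.sum_attach S]
  refine Finset.sum_congr rfl fun i _ => ?_
  rw [Algebra.TensorProduct.lift_tmul, Algebra.IsPushout.equiv_tmul]
  show algebraMap A B (MvPolynomial.aeval (R := T) Subtype.val (MvPolynomial.X _)) * algebraMap B₀ B i.1.2 = _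
  rw [MvPolynomial.aeval_X]

/-- Finitely many elements killed by a base change are killed at a finitely presented stage. -/
theorem exists_stage_tmul_zero {T A Y : Type u} [CommRing T] [CommRing A] [Algebra T A] [AddCommGroup Y]
    [Module T Y] (G : Finset Y) (h : ∀ z ∈ G, (1 : A) ⊗ₜ[T] z = 0) :
    ∃ (T' : Type u) (_ : CommRing T') (_ : Algebra T T') (_ : Algebra T' A) (_ : IsScalarTower T T' A),
      Algebra.FinitePresentation T T' ∧ ∀ z ∈ G, (1 : T') ⊗ₜ[T] z = 0 := by
  classical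
  let π : MvPolynomial A T →ₐ[T] A := MvPolynomial.aeval id
  have hπ : Function.Surjective π := fun a => ⟨MvPolynomial.X a, MvPolynomial.aeval_X _ _⟩
  let I : Submodule T (MvPolynomial A T) := LinearMap.ker π.toLinearMap
  have hex := rTensor_exact Y (LinearMap.exact_subtype_ker_map π.toLinearMap) hπ
  have hker : ∀ z ∈ G, ∃ S : Finset (I × Y),
      ∑ i ∈ S, (i.1 : MvPolynomial A T) ⊗ₜ[T] i.2 = (1 : MvPolynomial A T) ⊗ₜ[T] z := by
    intro z hz
    obtain ⟨x, hx⟩ := (hex (1 ⊗ₜ z)).1 (by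
      rw [LinearMap.rTensor_tmul]; show π 1 ⊗ₜ[T] z = 0; rw [map_one]; exact h z hz)
    obtain ⟨S, rfl⟩ := TensorProduct.exists_finset x
    refine ⟨S, ?_⟩
    rw [← hx, map_sum]
    exact Finset.sum_congr rfl fun i _ => rfl
  choose S hS using hker
  let J : Finset (MvPolynomial A T) := G.attach.biUnion fun z => (S z.1 z.2).image fun i => (i.1 : MvPolynomial A T)
  let t : Finset A := J.biUnion MvPolynomial.vars
  let r : MvPolynomial A T →ₐ[T] MvPolynomial t T :=
    MvPolynomial.aeval fun a => if ha : a ∈ t then MvPolynomial.X ⟨a, ha⟩ else 0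
  let ρ : MvPolynomial t T →ₐ[T] A := MvPolynomial.aeval Subtype.val
  have hr : r.comp (MvPolynomial.rename Subtype.val) = AlgHom.id T _ := by
    ext ⟨a, ha⟩
    simp [r, ha]
  have hρ : π.comp (MvPolynomial.rename Subtype.val) = ρ := by
    ext a
    simp [π, ρ]
  have hJ : ∀ p ∈ J, ρ (r p) = 0 := by
    intro p hp
    obtain ⟨q, rfl⟩ := MvPolynomial.exists_rename_eq_of_vars_subset_range p (Subtype.val : t → A)
      Subtype.val_injective fun a ha => ⟨⟨a, Finset.mem_biUnion.2 ⟨p, hp, ha⟩⟩, rfl⟩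
    rw [show r (MvPolynomial.rename Subtype.val q) = q from AlgHom.congr_fun hr q, ← hρ]
    obtain ⟨z, -, hz⟩ := Finset.mem_biUnion.1 hp
    obtain ⟨i, -, hi⟩ := Finset.mem_image.1 hz
    exact (congrArg π hi).symm.trans i.1.2
  let K : Ideal (MvPolynomial t T) := Ideal.span (r '' (J : Set (MvPolynomial A T)))
  have hK : K.FG := ⟨J.image r, by rw [Finset.coe_image]⟩
  letI : Algebra (MvPolynomial t T ⧸ K) A := (Ideal.Quotient.lift K ρ.toRingHom fun p hp =>
    (Ideal.span_le (I := RingHom.ker ρ.toRingHom)).2 (by rintro _ ⟨p, hp, rfl⟩; exact hJ p hp) hp).toAlgebra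
  refine ⟨MvPolynomial t T ⧸ K, inferInstance, inferInstance, inferInstance,
    .of_algebraMap_eq fun x => (ρ.commutes x).symm, Algebra.FinitePresentation.quotient hK, fun z hz => ?_⟩
  have h1 := congrArg (((Ideal.Quotient.mkₐ T K).comp r).toLinearMap.rTensor Y) (hS z hz)
  rw [map_sum, LinearMap.rTensor_tmul] at h1
  refine (Eq.trans ?_ h1.symm).trans (Finset.sum_eq_zero fun i hi => ?_)
  · show _ = ((Ideal.Quotient.mkₐ T K).comp r) 1 ⊗ₜ[T] z
    rw [map_one]
  · rw [LinearMap.rTensor_tmul,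
      show ((Ideal.Quotient.mkₐ T K).comp r).toLinearMap (i.1 : MvPolynomial A T) = 0 from
        Ideal.Quotient.eq_zero_iff_mem.2 (Ideal.subset_span ⟨_, Finset.mem_biUnion.2
          ⟨⟨z, hz⟩, Finset.mem_attach _ _, Finset.mem_image_of_mem _ hi⟩, rfl⟩), TensorProduct.zero_tmul]

section Main

variable {A₀ A B₀ B : Type u} [CommRing A₀] [CommRing A] [CommRing B₀] [CommRing B]
  [Algebra A₀ A] [Algebra A₀ B₀] [Algebra A₀ B] [Algebra A B] [Algebra B₀ B]
  [IsScalarTower A₀ A B] [IsScalarTower A₀ B₀ B]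

variable (A B₀ B) in
/-- The comparison of `T ⊗ B₀` with `B` for a stage `T`. -/
noncomputable def stageMap (T : Type u) [CommRing T] [Algebra A₀ T] [Algebra T A]
    [IsScalarTower A₀ T A] : T ⊗[A₀] B₀ →ₐ[A₀] B :=
  Algebra.TensorProduct.lift ((IsScalarTower.toAlgHom A₀ A B).comp (IsScalarTower.toAlgHom A₀ T A))
    (IsScalarTower.toAlgHom A₀ B₀ B) (fun _ _ => Commute.all _ _)

theorem stageMap_map (T T' : Type u) [CommRing T] [CommRing T'] [Algebra A₀ T] [Algebra A₀ T'] [Algebra T T']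
    [IsScalarTower A₀ T T'] [Algebra T A] [IsScalarTower A₀ T A] [Algebra T' A] [IsScalarTower A₀ T' A]
    [IsScalarTower T T' A] (x : T ⊗[A₀] B₀) :
    stageMap (A₀ := A₀) A B₀ B T' (Algebra.TensorProduct.map (IsScalarTower.toAlgHom A₀ T T') (AlgHom.id A₀ B₀) x) =
      stageMap (A₀ := A₀) A B₀ B T x := by
  induction x using TensorProduct.induction_on with
  | zero => simp
  | tmul t b => simp [stageMap, ← IsScalarTower.algebraMap_apply T T' A]
  | add x y hx hy => simp only [map_add, hx, hy]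

theorem stageMap_comp {T' T : Type u} [CommRing T'] [CommRing T] [Algebra A₀ T'] [Algebra A₀ T] [Algebra T' T]
    [IsScalarTower A₀ T' T] [Algebra T A] [IsScalarTower A₀ T A] [Algebra T' A] [IsScalarTower A₀ T' A]
    [IsScalarTower T' T A] (x : T' ⊗[A₀] B₀) :
    stageMap (A₀ := A₀) A B₀ B T (stageMap (A₀ := A₀) T B₀ (T ⊗[A₀] B₀) T' x) =
      stageMap (A₀ := A₀) A B₀ B T' x := by
  induction x using TensorProduct.induction_on with
  | zero => simp
  | tmul t b => simp [stageMap, ← IsScalarTower.algebraMap_apply T' T A, Algebra.TensorProduct.right_algebraMap_apply]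
  | add x y hx hy => simp only [map_add, hx, hy]

/-- A stage localised away from an element, compared with the localised base change. -/
theorem exists_stage_algebra [Algebra.IsPushout A₀ A B₀ B] (T : Type u) [CommRing T] [Algebra A₀ T] [Algebra T A]
    [IsScalarTower A₀ T A] [Algebra T B] [IsScalarTower T A B] {gT : T ⊗[A₀] B₀} {g : B}
    (hg : stageMap (A₀ := A₀) A B₀ B T gT = g) :
    ∃ (_ : Algebra (Localization.Away gT) (Localization.Away g))
      (_ : IsScalarTower B₀ (Localization.Away gT) (Localization.Away g))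
      (_ : IsScalarTower T (Localization.Away gT) (Localization.Away g)),
      Algebra.IsPushout T A (Localization.Away gT) (Localization.Away g) ∧
      ∀ x : T ⊗[A₀] B₀, algebraMap (Localization.Away gT) (Localization.Away g) (algebraMap _ _ x) =
        algebraMap B (Localization.Away g) (stageMap (A₀ := A₀) A B₀ B T x) := by
  letI : Algebra (T ⊗[A₀] B₀) B := (stageMap (A₀ := A₀) A B₀ B T).toRingHom.toAlgebra
  haveI : IsScalarTower T (T ⊗[A₀] B₀) B := .of_algebraMap_eq fun t => by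
    show algebraMap T B t = stageMap (A₀ := A₀) A B₀ B T (t ⊗ₜ 1)
    simp [stageMap, ← IsScalarTower.algebraMap_apply]
  haveI : IsScalarTower B₀ (T ⊗[A₀] B₀) B := .of_algebraMap_eq fun b => by
    show algebraMap B₀ B b = stageMap (A₀ := A₀) A B₀ B T (1 ⊗ₜ b)
    simp [stageMap]
  haveI : Algebra.IsPushout T A (T ⊗[A₀] B₀) B := by
    haveI : IsScalarTower A₀ (T ⊗[A₀] B₀) B := .of_algebraMap_eq fun a =>
      ((stageMap (A₀ := A₀) A B₀ B T).commutes a).symm
    exact (Algebra.IsPushout.comp_iff (R := A₀) (S := T) (R' := B₀) (S' := T ⊗[A₀] B₀) (T := A) (T' := B)).1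
      inferInstance
  subst hg
  let φ : Localization.Away gT →+* Localization.Away (stageMap (A₀ := A₀) A B₀ B T gT) :=
    IsLocalization.Away.lift gT (g := (algebraMap B (Localization.Away _)).comp (algebraMap (T ⊗[A₀] B₀) B))
      (IsLocalization.Away.algebraMap_isUnit (stageMap (A₀ := A₀) A B₀ B T gT))
  letI := φ.toAlgebra
  have hφ : ∀ x, φ (algebraMap _ _ x) = algebraMap B _ (algebraMap (T ⊗[A₀] B₀) B x) := fun x =>
    IsLocalization.Away.lift_eq gT _ x
  haveI : IsScalarTower (T ⊗[A₀] B₀) (Localization.Away gT) (Localization.Away (stageMap (A₀ := A₀) A B₀ B T gT)) :=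
    .of_algebraMap_eq fun x => by
      show _ = φ _
      rw [hφ, ← IsScalarTower.algebraMap_apply]
  haveI h1 : IsScalarTower B₀ (Localization.Away gT) (Localization.Away (stageMap (A₀ := A₀) A B₀ B T gT)) :=
    .of_algebraMap_eq fun b => by
      show _ = φ _
      rw [IsScalarTower.algebraMap_apply B₀ (T ⊗[A₀] B₀) (Localization.Away gT), hφ,
        ← IsScalarTower.algebraMap_apply B₀ (T ⊗[A₀] B₀) B, ← IsScalarTower.algebraMap_apply]
  haveI h2 : IsScalarTower T (Localization.Away gT) (Localization.Away (stageMap (A₀ := A₀) A B₀ B T gT)) :=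
    .of_algebraMap_eq fun t => by
      show _ = φ _
      rw [IsScalarTower.algebraMap_apply T (T ⊗[A₀] B₀) (Localization.Away gT), hφ,
        ← IsScalarTower.algebraMap_apply T (T ⊗[A₀] B₀) B, ← IsScalarTower.algebraMap_apply]
  exact ⟨inferInstance, h1, h2, isPushout_away (T := T) (T' := A) (BT := T ⊗[A₀] B₀) (BT' := B) gT, hφ⟩

variable {M N C : Type u} [AddCommGroup M] [Module B₀ M] [AddCommGroup N] [Module B₀ N]
  [AddCommGroup C] [Module B₀ C]

set_option maxHeartbeats 400000 in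
/-- Global flatness on a basic open descends to a stage. -/
theorem exists_stage_flat_aux [Algebra.FinitePresentation A₀ B₀] [Algebra.IsPushout A₀ A B₀ B]
    [Module.FinitePresentation B₀ C] (Q : Ideal B)
    (T₁ : Type u) [CommRing T₁] [Algebra A₀ T₁] [Algebra T₁ A] [IsScalarTower A₀ T₁ A]
    [Algebra.FinitePresentation A₀ T₁] (g₁ : T₁ ⊗[A₀] B₀) (g : B)
    (hg₁ : stageMap (A₀ := A₀) A B₀ B T₁ g₁ = g) (hg : g ∉ Q)
    [Module.Flat A (Localization.Away g ⊗[B₀] C)] :
    ∃ (T : Type u) (_ : CommRing T) (_ : Algebra A₀ T) (_ : Algebra T A) (_ : IsScalarTower A₀ T A)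
      (gT : T ⊗[A₀] B₀), Algebra.FinitePresentation A₀ T ∧ stageMap (A₀ := A₀) A B₀ B T gT ∉ Q ∧
        Module.Flat T (Localization.Away gT ⊗[B₀] C) := by
  letI : Algebra T₁ B := ((algebraMap A B).comp (algebraMap T₁ A)).toAlgebra
  haveI : IsScalarTower T₁ A B := .of_algebraMap_eq fun _ => rfl
  obtain ⟨_, _, _, hp₁, -⟩ := exists_stage_algebra (A₀ := A₀) (A := A) (B₀ := B₀) (B := B) T₁ hg₁
  haveI := hp₁
  haveI : Module.Flat A (A ⊗[T₁] (Localization.Away g₁ ⊗[B₀] C)) :=
    Module.Flat.of_linearEquiv ((Algebra.IsPushout.cancelBaseChange T₁ A (Localization.Away g₁) (Localization.Away g)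
      (Localization.Away g₁ ⊗[B₀] C)).symm ≪≫ₗ
      (AlgebraTensorModule.cancelBaseChange B₀ (Localization.Away g₁) (Localization.Away g) (Localization.Away g) C).restrictScalars A)
  obtain ⟨T, _, _, ψ, hT, hTflat⟩ := exists_fp_flat (A₀ := T₁) A (B₀ := Localization.Away g₁)
    (Localization.Away g₁ ⊗[B₀] C) inferInstance
  -- the stage `T`
  letI : Algebra A₀ T := ((algebraMap T₁ T).comp (algebraMap A₀ T₁)).toAlgebra
  haveI : IsScalarTower A₀ T₁ T := .of_algebraMap_eq fun _ => rfl
  letI : Algebra T A := ψ.toRingHom.toAlgebra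
  haveI : IsScalarTower T₁ T A := .of_algebraMap_eq fun x => (ψ.commutes x).symm
  haveI : IsScalarTower A₀ T A := .of_algebraMap_eq fun a => by
    rw [IsScalarTower.algebraMap_apply A₀ T₁ T, ← IsScalarTower.algebraMap_apply T₁ T A,
      ← IsScalarTower.algebraMap_apply]
  let gT := stageMap (A₀ := A₀) T B₀ (T ⊗[A₀] B₀) T₁ g₁
  obtain ⟨_, _, _, hpT₁, -⟩ := exists_stage_algebra (A₀ := A₀) (A := T) (B₀ := B₀) (B := T ⊗[A₀] B₀) T₁
    (g := gT) rfl
  haveI := hpT₁
  refine ⟨T, inferInstance, inferInstance, inferInstance, inferInstance, gT,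
    Algebra.FinitePresentation.trans A₀ T₁ T, ?_, ?_⟩
  · rw [stageMap_comp, hg₁]; exact hg
  · exact Module.Flat.of_linearEquiv (((Algebra.IsPushout.cancelBaseChange T₁ T (Localization.Away g₁)
      (Localization.Away gT) (Localization.Away g₁ ⊗[B₀] C)).symm ≪≫ₗ
      (AlgebraTensorModule.cancelBaseChange B₀ (Localization.Away g₁) (Localization.Away gT)
        (Localization.Away gT) C).restrictScalars T)).symm

set_option maxHeartbeats 800000 in
/-- Flatness at a prime of the base change holds on a basic open of a stage. -/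
theorem exists_stage_flat [Algebra.FinitePresentation A₀ B₀] [Algebra.IsPushout A₀ A B₀ B]
    [Module.FinitePresentation B₀ C] (Q : Ideal B) [Q.IsPrime] {L : Type u} [CommRing L] [Algebra B L]
    [IsLocalization.AtPrime L Q] [Algebra B₀ L] [IsScalarTower B₀ B L] [Algebra A L] [IsScalarTower A B L]
    (hflat : Module.Flat A (L ⊗[B₀] C)) :
    ∃ (T : Type u) (_ : CommRing T) (_ : Algebra A₀ T) (_ : Algebra T A) (_ : IsScalarTower A₀ T A)
      (gT : T ⊗[A₀] B₀), Algebra.FinitePresentation A₀ T ∧ stageMap (A₀ := A₀) A B₀ B T gT ∉ Q ∧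
        Module.Flat T (Localization.Away gT ⊗[B₀] C) := by
  classical
  haveI hBfp : Algebra.FinitePresentation A B :=
    Algebra.FinitePresentation.equiv (Algebra.IsPushout.equiv A₀ A B₀ B)
  haveI : Module.Flat A (LocalizedModule Q.primeCompl (B ⊗[B₀] C)) :=
    haveI : Module.Flat A (L ⊗[B] (B ⊗[B₀] C)) := Module.Flat.of_linearEquiv
      ((AlgebraTensorModule.cancelBaseChange B₀ B L L C).restrictScalars A)
    Module.Flat.of_linearEquiv ((IsLocalizedModule.linearEquiv Q.primeCompl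
      (LocalizedModule.mkLinearMap Q.primeCompl (B ⊗[B₀] C)) (TensorProduct.mk B L (B ⊗[B₀] C) 1)).restrictScalars A)
  obtain ⟨g, hg, hW⟩ := FlatModel.exists_flat_nhd (R := A) (B ⊗[B₀] C) Q inferInstance
  let Bg := Localization.Away g
  haveI : Module.Flat A (Bg ⊗[B₀] C) :=
    haveI := hW (Submonoid.powers g) (Submonoid.mem_powers g)
    haveI : Module.Flat A (Bg ⊗[B] (B ⊗[B₀] C)) :=
      Module.Flat.of_linearEquiv ((IsLocalizedModule.linearEquiv (Submonoid.powers g)
        (LocalizedModule.mkLinearMap (Submonoid.powers g) (B ⊗[B₀] C))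
        (TensorProduct.mk B Bg (B ⊗[B₀] C) 1)).restrictScalars A).symm
    Module.Flat.of_linearEquiv ((AlgebraTensorModule.cancelBaseChange B₀ B Bg Bg C).restrictScalars A).symm
  -- a stage for `g`
  obtain ⟨t₁, g₁, hg₁⟩ := exists_stage_elem (A₀ := A₀) (T := A₀) (A := A) (B₀ := B₀) (B := B) g
  letI : Algebra (MvPolynomial t₁ A₀) A := (MvPolynomial.aeval (Subtype.val : t₁ → A)).toAlgebra
  haveI : IsScalarTower A₀ (MvPolynomial t₁ A₀) A :=
    .of_algebraMap_eq fun a => ((MvPolynomial.aeval (Subtype.val : t₁ → A)).commutes a).symm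
  exact exists_stage_flat_aux (A₀ := A₀) (A := A) (C := C) Q (MvPolynomial t₁ A₀) g₁ g hg₁ hg

set_option maxHeartbeats 400000 in
/-- A killed set of generators is killed at a stage. -/
theorem exists_stage_kill_aux [Algebra.IsPushout A₀ A B₀ B]
    (l : M →ₗ[B₀] N) (Q : Ideal B)
    (T : Type u) [CommRing T] [Algebra A₀ T] [Algebra T A] [IsScalarTower A₀ T A] (gT : T ⊗[A₀] B₀)
    [Algebra (Localization.Away gT) (Localization.Away (stageMap (A₀ := A₀) A B₀ B T gT))]
    [IsScalarTower B₀ (Localization.Away gT) (Localization.Away (stageMap (A₀ := A₀) A B₀ B T gT))]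
    (hφT : ∀ x, algebraMap (Localization.Away gT) (Localization.Away (stageMap (A₀ := A₀) A B₀ B T gT))
      (algebraMap _ _ x) = algebraMap B _ (stageMap (A₀ := A₀) A B₀ B T x))
    (G : Finset (Localization.Away gT ⊗[B₀] M))
    (hG : Submodule.span (Localization.Away gT) (G : Set (Localization.Away gT ⊗[B₀] M)) =
      LinearMap.ker (l.baseChange (Localization.Away gT)))
    (T₃ : Type u) [CommRing T₃] [Algebra A₀ T₃] [Algebra T T₃] [IsScalarTower A₀ T T₃] [Algebra T₃ A]
    [IsScalarTower A₀ T₃ A] [IsScalarTower T T₃ A] [Algebra.FinitePresentation T T₃]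
    (u₃ : T₃ ⊗[A₀] B₀) (u : B) (hu₃ : stageMap (A₀ := A₀) A B₀ B T₃ u₃ = u) (huQ : u ∉ Q)
    (hu : ∀ z ∈ G, algebraMap B (Localization.Away (stageMap (A₀ := A₀) A B₀ B T gT)) u •
      (IsScalarTower.toAlgHom B₀ (Localization.Away gT) (Localization.Away (stageMap (A₀ := A₀) A B₀ B T gT))).toLinearMap.rTensor M z = 0) :
    ∃ (T₄ : Type u) (_ : CommRing T₄) (_ : Algebra A₀ T₄) (_ : Algebra T T₄) (_ : IsScalarTower A₀ T T₄)
      (_ : Algebra T₄ A) (_ : IsScalarTower A₀ T₄ A) (_ : IsScalarTower T T₄ A) (u₄ : T₄ ⊗[A₀] B₀),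
      Algebra.FinitePresentation T T₄ ∧ stageMap (A₀ := A₀) A B₀ B T₄ u₄ ∉ Q ∧
        ∀ (L' : Type u) [CommRing L'] [Algebra B₀ L'] (φ : Localization.Away gT →ₐ[B₀] L')
          (χ : T₄ ⊗[A₀] B₀ →+* L'), (∀ b, χ (algebraMap B₀ (T₄ ⊗[A₀] B₀) b) = algebraMap B₀ L' b) →
          (∀ x, φ (algebraMap _ _ x) = χ (stageMap (A₀ := A₀) T₄ B₀ (T₄ ⊗[A₀] B₀) T x)) →
          IsUnit (χ (stageMap (A₀ := A₀) T₄ B₀ (T₄ ⊗[A₀] B₀) T gT)) → IsUnit (χ u₄) →
          ∀ k ∈ LinearMap.ker (l.baseChange (Localization.Away gT)), φ.toLinearMap.rTensor M k = 0 := by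
  classical
  letI : Algebra T₃ B := ((algebraMap A B).comp (algebraMap T₃ A)).toAlgebra
  haveI : IsScalarTower T₃ A B := .of_algebraMap_eq fun _ => rfl
  let g := stageMap (A₀ := A₀) A B₀ B T gT
  let Bg := Localization.Away g
  let BT := Localization.Away gT
  let img : BT ⊗[B₀] M →ₗ[B₀] Bg ⊗[B₀] M := (IsScalarTower.toAlgHom B₀ BT Bg).toLinearMap.rTensor M
  let g₃ := stageMap (A₀ := A₀) T₃ B₀ (T₃ ⊗[A₀] B₀) T gT
  have hg₃ : stageMap (A₀ := A₀) A B₀ B T₃ g₃ = g := stageMap_comp gT
  obtain ⟨_, _, _, hpT₃, hφ₃⟩ := exists_stage_algebra (A₀ := A₀) (A := A) (B₀ := B₀) (B := B) T₃ hg₃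
  haveI := hpT₃
  obtain ⟨_, _, _, -, hφT₃⟩ := exists_stage_algebra (A₀ := A₀) (A := T₃) (B₀ := B₀) (B := T₃ ⊗[A₀] B₀) T
    (g := g₃) rfl
  let B₃ := Localization.Away g₃
  haveI : IsScalarTower BT B₃ Bg := .of_algebraMap_eq fun x => by
    refine RingHom.congr_fun (f := algebraMap BT Bg) (g := (algebraMap B₃ Bg).comp (algebraMap BT B₃))
      (IsLocalization.ringHom_ext (Submonoid.powers gT) (RingHom.ext fun y => ?_)) x
    show algebraMap BT Bg (algebraMap _ BT y) = algebraMap B₃ Bg (algebraMap BT B₃ (algebraMap _ BT y))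
    rw [hφT, hφT₃, hφ₃, stageMap_comp]
  let w : BT ⊗[B₀] M → B₃ ⊗[B₀] M := fun z =>
    algebraMap (T₃ ⊗[A₀] B₀) B₃ u₃ • (IsScalarTower.toAlgHom B₀ BT B₃).toLinearMap.rTensor M z
  have hw : ∀ z ∈ G.image w, (1 : A) ⊗ₜ[T₃] z = 0 := by
    intro y hy
    obtain ⟨z, hz, rfl⟩ := Finset.mem_image.1 hy
    rw [← Algebra.IsPushout.cancelBaseChange_tmul T₃ A B₃ Bg, LinearEquiv.map_eq_zero_iff]
    apply (AlgebraTensorModule.cancelBaseChange B₀ B₃ Bg Bg M).injective
    have key : ∀ (a : B₃) y, (AlgebraTensorModule.cancelBaseChange B₀ B₃ Bg Bg M)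
        ((1 : Bg) ⊗ₜ[B₃] (a • (IsScalarTower.toAlgHom B₀ BT B₃).toLinearMap.rTensor M y)) =
        algebraMap B₃ Bg a • img y := by
      intro a y
      induction y using TensorProduct.induction_on with
      | zero => simp
      | tmul b m => simp [img, Algebra.smul_def, TensorProduct.smul_tmul', ← IsScalarTower.algebraMap_apply BT B₃ Bg]
      | add x y hx hy => simp only [map_add, smul_add, TensorProduct.tmul_add, hx, hy]
    rw [key, hφ₃, hu₃, map_zero, hu z hz]
  obtain ⟨T₄, _, _, _, _, hT₄, hzero⟩ := exists_stage_tmul_zero (G.image w) hw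
  -- the final stage
  letI : Algebra A₀ T₄ := ((algebraMap T₃ T₄).comp (algebraMap A₀ T₃)).toAlgebra
  haveI : IsScalarTower A₀ T₃ T₄ := .of_algebraMap_eq fun _ => rfl
  letI : Algebra T T₄ := ((algebraMap T₃ T₄).comp (algebraMap T T₃)).toAlgebra
  haveI : IsScalarTower T T₃ T₄ := .of_algebraMap_eq fun _ => rfl
  haveI : IsScalarTower A₀ T T₄ := .of_algebraMap_eq fun a => by
    show algebraMap A₀ T₄ a = algebraMap T₃ T₄ (algebraMap T T₃ (algebraMap A₀ T a))
    rw [← IsScalarTower.algebraMap_apply A₀ T T₃, ← IsScalarTower.algebraMap_apply]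
  haveI : IsScalarTower A₀ T₄ A := .of_algebraMap_eq fun a => by
    rw [IsScalarTower.algebraMap_apply A₀ T₃ T₄, ← IsScalarTower.algebraMap_apply T₃ T₄ A,
      ← IsScalarTower.algebraMap_apply]
  haveI : IsScalarTower T T₄ A := .of_algebraMap_eq fun a => by
    rw [IsScalarTower.algebraMap_apply T T₃ T₄, ← IsScalarTower.algebraMap_apply T₃ T₄ A,
      ← IsScalarTower.algebraMap_apply]
  let u₄ := stageMap (A₀ := A₀) T₄ B₀ (T₄ ⊗[A₀] B₀) T₃ u₃
  refine ⟨T₄, inferInstance, inferInstance, inferInstance, inferInstance, inferInstance, inferInstance,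
    inferInstance, u₄, Algebra.FinitePresentation.trans T T₃ T₄, ?_, ?_⟩
  · rw [stageMap_comp, hu₃]; exact huQ
  intro L' _ _ φ χ hχB hφχ hgu huu k hk
  rw [← hG] at hk
  induction hk using Submodule.span_induction with
  | zero => simp
  | add x y _ _ hx hy => rw [map_add, hx, hy, add_zero]
  | smul a x _ hx =>
    have : ∀ y, φ.toLinearMap.rTensor M (a • y) = φ a • φ.toLinearMap.rTensor M y := fun y => by
      induction y using TensorProduct.induction_on with
      | zero => simp
      | tmul b m => simp [TensorProduct.smul_tmul']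
      | add x y hx hy => simp only [smul_add, map_add, hx, hy]
    rw [this, hx, smul_zero]
  | mem z hz =>
    letI : Algebra T₃ L' := (χ.comp ((algebraMap T₄ (T₄ ⊗[A₀] B₀)).comp (algebraMap T₃ T₄))).toAlgebra
    let ψ₃ : T₄ ⊗[A₀] B₀ →+* L' := χ
    have hunit : IsUnit ((χ.comp (stageMap (A₀ := A₀) T₄ B₀ (T₄ ⊗[A₀] B₀) T₃).toRingHom) g₃) := by
      show IsUnit (χ (stageMap (A₀ := A₀) T₄ B₀ (T₄ ⊗[A₀] B₀) T₃ g₃))
      rw [stageMap_comp]; exact hgu
    let θ : B₃ →+* L' := IsLocalization.Away.lift g₃ hunit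
    have hθ : ∀ x, θ (algebraMap _ B₃ x) = χ (stageMap (A₀ := A₀) T₄ B₀ (T₄ ⊗[A₀] B₀) T₃ x) :=
      IsLocalization.Away.lift_eq g₃ hunit
    let θ' : B₃ →ₐ[B₀] L' := ⟨θ, fun b => by
      show θ (algebraMap B₀ B₃ b) = _
      rw [IsScalarTower.algebraMap_apply B₀ (T₃ ⊗[A₀] B₀) B₃, hθ]
      convert hχB b using 2
      simp [stageMap, Algebra.TensorProduct.right_algebraMap_apply]⟩
    have hθφ : θ'.comp (IsScalarTower.toAlgHom B₀ BT B₃) = φ := by
      refine AlgHom.ext fun x => ?_
      refine RingHom.congr_fun (f := θ.comp (algebraMap BT B₃)) (g := φ.toRingHom)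
        (IsLocalization.ringHom_ext (Submonoid.powers gT) (RingHom.ext fun y => ?_)) x
      show θ (algebraMap BT B₃ (algebraMap _ BT y)) = φ (algebraMap _ BT y)
      rw [hφT₃, hθ, hφχ, stageMap_comp]
    -- a map out of the tensor product with the final stage
    let F : T₄ ⊗[T₃] (B₃ ⊗[B₀] M) →+ L' ⊗[B₀] M := TensorProduct.liftAddHom
      { toFun := fun t =>
          { toFun := fun y => χ (algebraMap T₄ (T₄ ⊗[A₀] B₀) t) • θ'.toLinearMap.rTensor M y
            map_zero' := by simp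
            map_add' := fun x y => by rw [map_add, smul_add] }
        map_zero' := by ext; simp
        map_add' := fun x y => by ext; simp [add_smul, TensorProduct.add_tmul] }
      (fun r t y => by
        show χ (algebraMap T₄ _ (r • t)) • θ'.toLinearMap.rTensor M y =
          χ (algebraMap T₄ _ t) • θ'.toLinearMap.rTensor M (r • y)
        symm
        have : ∀ y, θ'.toLinearMap.rTensor M (r • y) = θ (algebraMap T₃ B₃ r) • θ'.toLinearMap.rTensor M y := by
          intro y
          induction y using TensorProduct.induction_on with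
          | zero => simp
          | tmul b m => simp [TensorProduct.smul_tmul', Algebra.smul_def, θ']
          | add x y hx hy => simp only [smul_add, map_add, hx, hy]
        rw [this, smul_smul, Algebra.smul_def, map_mul, map_mul, IsScalarTower.algebraMap_apply T₃ (T₃ ⊗[A₀] B₀) B₃,
          hθ, mul_comm (χ _)]
        congr 2
        simp [stageMap])
    have h1 := congrArg F (hzero _ (Finset.mem_image_of_mem w hz))
    rw [map_zero] at h1
    change χ (algebraMap T₄ (T₄ ⊗[A₀] B₀) 1) • θ'.toLinearMap.rTensor M (w z) = 0 at h1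
    have key : ∀ (a : B₃) y, θ'.toLinearMap.rTensor M (a • (IsScalarTower.toAlgHom B₀ BT B₃).toLinearMap.rTensor M y) =
        θ a • φ.toLinearMap.rTensor M y := by
      intro a y
      induction y using TensorProduct.induction_on with
      | zero => simp
      | tmul b m =>
        simp only [← hθφ]
        simp [TensorProduct.smul_tmul', θ']
        rfl
      | add x y hx hy => simp only [map_add, smul_add, hx, hy]
    rw [map_one, map_one, one_smul, key, hθ] at h1
    exact huu.smul_eq_zero.1 h1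

set_option maxHeartbeats 800000 in
/-- The kernel at a stage is killed at a later stage. -/
theorem exists_stage_kill [Algebra.IsPushout A₀ A B₀ B] [Algebra.FinitePresentation A₀ B₀]
    [Module.FinitePresentation B₀ M] [Module.FinitePresentation B₀ N] [Module.FinitePresentation B₀ C]
    (l : M →ₗ[B₀] N) (q : N →ₗ[B₀] C) (hlq : Function.Exact l q) (hq : Function.Surjective q)
    (Q : Ideal B) [Q.IsPrime] {L : Type u} [CommRing L] [Algebra B L] [IsLocalization.AtPrime L Q]
    [Algebra B₀ L] [IsScalarTower B₀ B L] (hinj : Function.Injective (l.baseChange L))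
    (T : Type u) [CommRing T] [Algebra A₀ T] [Algebra T A] [IsScalarTower A₀ T A] (gT : T ⊗[A₀] B₀)
    (hg : stageMap (A₀ := A₀) A B₀ B T gT ∉ Q) [Module.Flat T (Localization.Away gT ⊗[B₀] C)] :
    ∃ (T₄ : Type u) (_ : CommRing T₄) (_ : Algebra A₀ T₄) (_ : Algebra T T₄) (_ : IsScalarTower A₀ T T₄)
      (_ : Algebra T₄ A) (_ : IsScalarTower A₀ T₄ A) (_ : IsScalarTower T T₄ A) (u₄ : T₄ ⊗[A₀] B₀),
      Algebra.FinitePresentation T T₄ ∧ stageMap (A₀ := A₀) A B₀ B T₄ u₄ ∉ Q ∧
        ∀ (L' : Type u) [CommRing L'] [Algebra B₀ L'] (φ : Localization.Away gT →ₐ[B₀] L')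
          (χ : T₄ ⊗[A₀] B₀ →+* L'), (∀ b, χ (algebraMap B₀ (T₄ ⊗[A₀] B₀) b) = algebraMap B₀ L' b) →
          (∀ x, φ (algebraMap _ _ x) = χ (stageMap (A₀ := A₀) T₄ B₀ (T₄ ⊗[A₀] B₀) T x)) →
          IsUnit (χ (stageMap (A₀ := A₀) T₄ B₀ (T₄ ⊗[A₀] B₀) T gT)) → IsUnit (χ u₄) →
          ∀ k ∈ LinearMap.ker (l.baseChange (Localization.Away gT)), φ.toLinearMap.rTensor M k = 0 := by
  classical
  letI : Algebra T B := ((algebraMap A B).comp (algebraMap T A)).toAlgebra
  haveI : IsScalarTower T A B := .of_algebraMap_eq fun _ => rfl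
  let g := stageMap (A₀ := A₀) A B₀ B T gT
  let Bg := Localization.Away g
  obtain ⟨_, _, _, -, hφT⟩ := exists_stage_algebra (A₀ := A₀) (A := A) (B₀ := B₀) (B := B) T (gT := gT) (g := g) rfl
  let BT := Localization.Away gT
  haveI : Algebra.FinitePresentation T BT := inferInstance
  obtain ⟨G, hG⟩ := fg_ker_of_flat_coker (A := T) (B := BT) (l.baseChange BT) (q.baseChange BT)
    (lTensor_exact BT hlq hq) (LinearMap.lTensor_surjective BT hq)
  -- an element killing the generators
  letI : Algebra Bg L := (IsLocalization.Away.lift g (g := algebraMap B L)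
    (IsLocalization.map_units L (⟨g, hg⟩ : Q.primeCompl))).toAlgebra
  haveI : IsScalarTower B Bg L := .of_algebraMap_eq fun x => (IsLocalization.Away.lift_eq g _ x).symm
  haveI : IsScalarTower B₀ Bg L := .of_algebraMap_eq fun b => by
    rw [IsScalarTower.algebraMap_apply B₀ B Bg, ← IsScalarTower.algebraMap_apply B Bg L,
      ← IsScalarTower.algebraMap_apply]
  haveI : IsLocalization (Q.primeCompl.map (algebraMap B Bg)) L :=
    IsLocalization.isLocalization_of_submonoid_le (R := B) Bg L (Submonoid.powers g) Q.primeCompl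
      (Submonoid.powers_le.2 hg)
  let img : BT ⊗[B₀] M →ₗ[B₀] Bg ⊗[B₀] M := (IsScalarTower.toAlgHom B₀ BT Bg).toLinearMap.rTensor M
  have hkill : ∀ z ∈ G, ∃ v ∉ Q, algebraMap B Bg v • img z = 0 := by
    intro z hz
    have h0 : l.baseChange BT z = 0 := hG.le (Submodule.subset_span hz)
    have h1 : (1 : L) ⊗ₜ[Bg] img z = 0 := by
      apply (AlgebraTensorModule.cancelBaseChange B₀ Bg L L M).injective
      apply hinj
      rw [map_zero, map_zero]
      have key : ∀ y, l.baseChange L ((AlgebraTensorModule.cancelBaseChange B₀ Bg L L M) ((1 : L) ⊗ₜ[Bg] img y)) =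
          ((IsScalarTower.toAlgHom B₀ Bg L).comp (IsScalarTower.toAlgHom B₀ BT Bg)).toLinearMap.rTensor N
            (l.baseChange BT y) := by
        intro y
        induction y using TensorProduct.induction_on with
        | zero => simp
        | tmul a m => simp [img, Algebra.smul_def]
        | add x y hx hy => simp only [map_add, TensorProduct.tmul_add, hx, hy]
      rw [key, h0, map_zero]
    obtain ⟨⟨_, v, hv, rfl⟩, hvz⟩ := (IsLocalizedModule.eq_zero_iff (Q.primeCompl.map (algebraMap B Bg))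
      (TensorProduct.mk Bg L (Bg ⊗[B₀] M) 1)).1 h1
    exact ⟨v, hv, hvz⟩
  choose v hvQ hv using hkill
  let u : B := ∏ z ∈ G.attach, v z.1 z.2
  have huQ : u ∈ Q.primeCompl :=
    Submonoid.prod_mem _ fun (z : {w // w ∈ G}) _ => hvQ z.1 z.2
  have hu : ∀ z ∈ G, algebraMap B Bg u • img z = 0 := by
    intro z hz
    obtain ⟨c, hc⟩ : v z hz ∣ u :=
      Finset.dvd_prod_of_mem (fun w : {w // w ∈ G} => v w.1 w.2) (Finset.mem_attach G ⟨z, hz⟩)
    rw [hc, mul_comm, map_mul, mul_smul, hv z hz, smul_zero]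
  -- a stage for it
  obtain ⟨t₃, u₃, hu₃⟩ := exists_stage_elem (A₀ := A₀) (T := T) (A := A) (B₀ := B₀) (B := B) u
  letI : Algebra (MvPolynomial t₃ T) A := (MvPolynomial.aeval (Subtype.val : t₃ → A)).toAlgebra
  haveI : IsScalarTower T (MvPolynomial t₃ T) A :=
    .of_algebraMap_eq fun a => ((MvPolynomial.aeval (Subtype.val : t₃ → A)).commutes a).symm
  haveI : IsScalarTower A₀ (MvPolynomial t₃ T) A := IsScalarTower.to₁₃₄ A₀ T _ A
  exact exists_stage_kill_aux (A₀ := A₀) (A := A) l Q T gT hφT G hG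
    (MvPolynomial t₃ T) u₃ u hu₃ huQ hu

set_option maxHeartbeats 800000 in
/-- Injectivity with flat cokernel at a prime of a base change holds at a finitely presented stage. -/
theorem exists_stage_goodAt [Algebra.FinitePresentation A₀ B₀] [Algebra.IsPushout A₀ A B₀ B]
    [Module.FinitePresentation B₀ M] [Module.FinitePresentation B₀ N]
    (l : M →ₗ[B₀] N) (q : N →ₗ[B₀] C) (hlq : Function.Exact l q) (hq : Function.Surjective q)
    (Q : Ideal B) [Q.IsPrime] {L : Type u} [CommRing L] [Algebra B L] [IsLocalization.AtPrime L Q]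
    [Algebra B₀ L] [IsScalarTower B₀ B L] [Algebra A L] [IsScalarTower A B L] (h : GoodAt l C A L) :
    ∃ (T : Type u) (_ : CommRing T) (_ : Algebra A₀ T) (_ : Algebra T A) (_ : IsScalarTower A₀ T A),
      Algebra.FinitePresentation A₀ T ∧
        GoodAt l C T (Localization.AtPrime (Q.comap (stageMap (A₀ := A₀) A B₀ B T).toRingHom)) := by
  obtain ⟨hinj, hflat⟩ := h
  haveI : Module.FinitePresentation B₀ C := Module.finitePresentation_of_surjective q hq (by
    rw [LinearMap.exact_iff.1 hlq, LinearMap.range_eq_map]; exact Module.Finite.fg_top.map _)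
  obtain ⟨T, _, _, _, _, gT, hT, hgT, hTflat⟩ :=
    exists_stage_flat (A₀ := A₀) (A := A) (B₀ := B₀) (C := C) Q hflat
  obtain ⟨T₄, _, _, _, _, _, _, _, u₄, hT₄, hu₄, hkill⟩ :=
    exists_stage_kill (A₀ := A₀) (A := A) l q hlq hq Q hinj T gT hgT
  refine ⟨T₄, inferInstance, inferInstance, inferInstance, inferInstance,
    Algebra.FinitePresentation.trans A₀ T T₄, ?_⟩
  let g₄ := stageMap (A₀ := A₀) T₄ B₀ (T₄ ⊗[A₀] B₀) T gT
  obtain ⟨_, _, _, hpT4, hφT4⟩ := exists_stage_algebra (A₀ := A₀) (A := T₄) (B₀ := B₀) (B := T₄ ⊗[A₀] B₀) T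
    (gT := gT) (g := g₄) rfl
  haveI := hpT4
  let BT := Localization.Away gT
  let B₄ := Localization.Away g₄
  let Q₄ : Ideal (T₄ ⊗[A₀] B₀) := Q.comap (stageMap (A₀ := A₀) A B₀ B T₄).toRingHom
  let L₄ := Localization.AtPrime Q₄
  have hg₄Q : g₄ ∈ Q₄.primeCompl := by
    show stageMap (A₀ := A₀) A B₀ B T₄ (stageMap (A₀ := A₀) T₄ B₀ (T₄ ⊗[A₀] B₀) T gT) ∉ Q
    rw [stageMap_comp]; exact hgT
  letI : Algebra B₄ L₄ := (IsLocalization.Away.lift g₄ (g := algebraMap (T₄ ⊗[A₀] B₀) L₄)
    (IsLocalization.map_units L₄ (⟨g₄, hg₄Q⟩ : Q₄.primeCompl))).toAlgebra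
  haveI : IsScalarTower (T₄ ⊗[A₀] B₀) B₄ L₄ := .of_algebraMap_eq fun x =>
    (IsLocalization.Away.lift_eq g₄ _ x).symm
  haveI : IsScalarTower B₀ B₄ L₄ := .of_algebraMap_eq fun b => by
    rw [IsScalarTower.algebraMap_apply B₀ (T₄ ⊗[A₀] B₀) B₄,
      ← IsScalarTower.algebraMap_apply (T₄ ⊗[A₀] B₀) B₄ L₄, ← IsScalarTower.algebraMap_apply]
  haveI : IsScalarTower T₄ B₄ L₄ := .of_algebraMap_eq fun b => by
    rw [IsScalarTower.algebraMap_apply T₄ (T₄ ⊗[A₀] B₀) B₄,
      ← IsScalarTower.algebraMap_apply (T₄ ⊗[A₀] B₀) B₄ L₄, ← IsScalarTower.algebraMap_apply]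
  haveI : IsLocalization (Q₄.primeCompl.map (algebraMap (T₄ ⊗[A₀] B₀) B₄)) L₄ :=
    IsLocalization.isLocalization_of_submonoid_le (R := T₄ ⊗[A₀] B₀) B₄ L₄ (Submonoid.powers g₄) Q₄.primeCompl
      (Submonoid.powers_le.2 hg₄Q)
  haveI : Module.Flat B₄ L₄ := IsLocalization.flat L₄ (Q₄.primeCompl.map (algebraMap (T₄ ⊗[A₀] B₀) B₄))
  refine ⟨?_, ?_⟩
  · letI : Algebra BT L₄ := ((algebraMap B₄ L₄).comp (algebraMap BT B₄)).toAlgebra
    haveI : IsScalarTower BT B₄ L₄ := .of_algebraMap_eq fun _ => rfl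
    haveI : IsScalarTower B₀ BT L₄ := .of_algebraMap_eq fun b => by
      show _ = algebraMap B₄ L₄ (algebraMap BT B₄ (algebraMap B₀ BT b))
      rw [← IsScalarTower.algebraMap_apply B₀ BT B₄, ← IsScalarTower.algebraMap_apply]
    have hK : Function.Exact (LinearMap.ker (l.baseChange BT)).subtype (l.baseChange BT) :=
      LinearMap.exact_subtype_ker_map _
    have hex := exact_lTensor_pushout (T := T) (A := T₄) (B := B₄) (L := L₄)
      (K := ↥(LinearMap.ker (l.baseChange BT)))
      (LinearMap.ker (l.baseChange BT)).subtype (l.baseChange BT) (q.baseChange BT)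
      hK (lTensor_exact BT hlq hq) (LinearMap.lTensor_surjective BT hq)
    let e := AlgebraTensorModule.cancelBaseChange B₀ BT L₄ L₄ M
    have hφ : ∀ k : BT ⊗[B₀] M, e ((1 : L₄) ⊗ₜ[BT] k) = (IsScalarTower.toAlgHom B₀ BT L₄).toLinearMap.rTensor M k := by
      intro k
      induction k using TensorProduct.induction_on with
      | zero => simp
      | tmul b m => simp [e, Algebra.smul_def]
      | add x y hx hy => simp only [TensorProduct.tmul_add, map_add, hx, hy]
    have hgen : ∀ k ∈ LinearMap.ker (l.baseChange BT), e ((1 : L₄) ⊗ₜ[BT] k) = 0 := fun k hk => by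
      rw [hφ]
      refine hkill L₄ (IsScalarTower.toAlgHom B₀ BT L₄) (algebraMap (T₄ ⊗[A₀] B₀) L₄)
        (fun b => (IsScalarTower.algebraMap_apply B₀ (T₄ ⊗[A₀] B₀) L₄ b).symm) (fun x => ?_)
        (IsLocalization.map_units L₄ (⟨g₄, hg₄Q⟩ : Q₄.primeCompl))
        (IsLocalization.map_units L₄ (⟨u₄, hu₄⟩ : Q₄.primeCompl)) k hk
      show algebraMap B₄ L₄ (algebraMap BT B₄ (algebraMap _ BT x)) = _
      rw [hφT4, ← IsScalarTower.algebraMap_apply]
    have hcomm : ∀ z, l.baseChange L₄ (e z) =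
        AlgebraTensorModule.cancelBaseChange B₀ BT L₄ L₄ N ((l.baseChange BT).lTensor L₄ z) := by
      intro z
      induction z using TensorProduct.induction_on with
      | zero => simp
      | tmul a y =>
        induction y using TensorProduct.induction_on with
        | zero => simp
        | tmul b m => simp [e]
        | add x y hx hy => simp only [TensorProduct.tmul_add, map_add, hx, hy]
      | add x y hx hy => simp only [map_add, hx, hy]
    refine (injective_iff_map_eq_zero _).2 fun x hx => ?_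
    obtain ⟨z, rfl⟩ := e.surjective x
    rw [hcomm, LinearEquiv.map_eq_zero_iff] at hx
    obtain ⟨k, rfl⟩ := (hex z).1 hx
    clear hx
    induction k using TensorProduct.induction_on with
    | zero => simp
    | tmul a k =>
      rw [LinearMap.lTensor_tmul, ← mul_one a, ← smul_eq_mul, ← TensorProduct.smul_tmul', map_smul,
        Submodule.subtype_apply, hgen _ k.2, smul_zero]
    | add x y hx hy => rw [map_add, map_add, hx, hy, add_zero]
  · haveI : Module.Flat T₄ (B₄ ⊗[BT] (BT ⊗[B₀] C)) := MorLib.FlatBC.flat_pushout_tensor (R := T)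
    haveI : Module.Flat T₄ (B₄ ⊗[B₀] C) := Module.Flat.of_linearEquiv
      ((AlgebraTensorModule.cancelBaseChange B₀ BT B₄ B₄ C).restrictScalars T₄).symm
    haveI : Module.Flat T₄ (L₄ ⊗[B₄] (B₄ ⊗[B₀] C)) := MorLib.FlatBC.flat_tensor_of_flat
    exact Module.Flat.of_linearEquiv
      ((AlgebraTensorModule.cancelBaseChange B₀ B₄ L₄ L₄ C).restrictScalars T₄).symm

end Main

end Groth.Agent.FibFlatMod
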