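import Groth.Agent.FibFlatMod.StagePoint
import Groth.Agent.GrFlat5.FlatPullback
import Groth.Agent.FlatStrat.Sheaf

/-!
# Flatness of a module descends along limits
-/

set_option autoImplicit false
set_option linter.style.haveILetI false
set_option backward.isDefEq.respectTransparency false
set_option backward.isDefEq.respectTransparency.types false

universe u

open CategoryTheory Limits AlgebraicGeometry TensorProduct

namespace Groth.Agent.FibFlatMod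

open Groth.Agent

variable {X : Scheme.{u}}

/-- A zero morphism out of a zero module is injective on stalks, and its cokernel is the target. -/
theorem inj_of_eq_zero {Z F : X.Modules} (hZ : 𝟙 Z = 0) (u : Z ⟶ F) (x : X) :
    Function.Injective (stalkLin u x) := by
  refine (injective_iff_map_eq_zero _).2 fun m _ => ?_
  obtain ⟨U, hx, s, rfl⟩ := TopCat.Presheaf.germ_exist Z.presheaf m
  have : (𝟙 Z : Z ⟶ Z).app U s = (0 : Z ⟶ Z).app U s := by rw [hZ]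
  rw [Scheme.Modules.Hom.id_app, Scheme.Modules.Hom.zero_app] at this
  rw [show s = 0 from this, map_zero]

/-- Flatness of an inverse image is preserved by base change. -/
theorem isFlatOverAt_bc {X Xi X₀ Y Yi : Scheme.{u}} {v : X ⟶ Xi} {f : X ⟶ Y} {fi : Xi ⟶ Yi}
    {w : Y ⟶ Yi} (hc : IsPullback v f fi w) (pX : Xi ⟶ X₀) (qX : X ⟶ X₀) (hq : v ≫ pX = qX)
    (F₀ : X₀.Modules) (x : X)
    (h : FlatMod.IsFlatOverAt fi ((Scheme.Modules.pullback pX).obj F₀) (v x)) :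
    FlatMod.IsFlatOverAt f ((Scheme.Modules.pullback qX).obj F₀) x :=
  GrFlat5.isFlatOverAt_of_iso f
    ((Scheme.Modules.pullbackComp v pX).app F₀ ≪≫ (Scheme.Modules.pullbackCongr hq).app F₀) x
    (MorLib.FlatBC.isFlatOverAt_baseChange fi f v w hc _ x h)

section

variable {I : Type u} [SmallCategory I] [IsCofiltered I]
  (D : I ⥤ Scheme.{u}) (c : Limits.Cone D) (hc : Limits.IsLimit c)
  [∀ (i j : I) (φ : i ⟶ j), IsAffineHom (D.map φ)] (i₀ : I)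
  {X₀ Y₀ : Scheme.{u}} (f₀ : X₀ ⟶ Y₀) (g₀ : Y₀ ⟶ D.obj i₀) [LocallyOfFinitePresentation f₀]
  {F₀ : X₀.Modules} (hF₀ : CohB1.IsFP F₀)
  {X Y : Scheme.{u}} (f : X ⟶ Y) (g : Y ⟶ c.pt) (qY : Y ⟶ Y₀) (qX : X ⟶ X₀)
  (hY : IsPullback qY g g₀ (c.π.app i₀)) (hX : IsPullback qX f f₀ qY)

include hc hF₀ hY hX

/-- Flatness at a point of the limit holds at a stage. -/
theorem exists_stage_flatAt (x : X) (hflat : FlatMod.IsFlatOverAt f ((Scheme.Modules.pullback qX).obj F₀) x) :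
    ∃ (i : I) (φ : i ⟶ i₀) (Xi Yi : Scheme.{u}) (fi : Xi ⟶ Yi) (gi : Yi ⟶ D.obj i)
      (pY : Yi ⟶ Y₀) (pX : Xi ⟶ X₀) (vY : Y ⟶ Yi) (vX : X ⟶ Xi),
      IsPullback pY gi g₀ (D.map φ) ∧ IsPullback pX fi f₀ pY ∧
        vY ≫ pY = qY ∧ vY ≫ gi = g ≫ c.π.app i ∧ vX ≫ pX = qX ∧ vX ≫ fi = f ≫ vY ∧
        FlatMod.IsFlatOverAt fi ((Scheme.Modules.pullback pX).obj F₀) (vX x) := by
  let Z : X₀.Modules := cokernel (𝟙 F₀)
  have hZ : CohB1.IsFP Z :=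
    LimMod.isFP_cokernel (QCoh.isQCoh_of_isFP hF₀) (QCoh.isFT_of_isFP hF₀) hF₀ _
  have hZ0 : 𝟙 Z = 0 := by
    refine (cancel_epi (cokernel.π (𝟙 F₀))).1 ?_
    rw [Category.comp_id, comp_zero, ← Category.id_comp (cokernel.π (𝟙 F₀)), cokernel.condition]
  have hinj : ∀ {T : Scheme.{u}} (q : T ⟶ X₀) (t : T),
      Function.Injective (stalkLin ((Scheme.Modules.pullback q).map (0 : Z ⟶ F₀)) t) := fun {T} q t =>
    inj_of_eq_zero (by rw [← CategoryTheory.Functor.map_id, hZ0, Functor.map_zero]) _ t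
  have e : ∀ {T : Scheme.{u}} (q : T ⟶ X₀), cokernel ((Scheme.Modules.pullback q).map (0 : Z ⟶ F₀)) ≅
      (Scheme.Modules.pullback q).obj F₀ := fun {T} q =>
    haveI := LimMod.pullback_preservesColimits q
    (PreservesCokernel.iso (Scheme.Modules.pullback q) (0 : Z ⟶ F₀)).symm ≪≫
      (Scheme.Modules.pullback q).mapIso cokernelZeroIsoTarget
  obtain ⟨i, φ, Xi, Yi, fi, gi, pY, pX, vY, vX, h1, h2, h3, h4, h5, h6, -, h8⟩ :=
    exists_stage_inj_coker_flat D c hc i₀ f₀ g₀ hZ hF₀ 0 f g qY qX hY hX x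
      ⟨hinj qX x, GrFlat5.isFlatOverAt_of_iso f (e qX).symm x hflat⟩
  exact ⟨i, φ, Xi, Yi, fi, gi, pY, pX, vY, vX, h1, h2, h3, h4, h5, h6,
    GrFlat5.isFlatOverAt_of_iso fi (e pX) _ h8⟩

set_option maxHeartbeats 400000 in
/-- Flatness on the part of the limit over an affine open holds at a stage and all later ones. -/
theorem exists_stage_flat_chart {V₀ : Y₀.Opens} (hV₀ : IsAffineOpen V₀) {U₀ : X₀.Opens} (hU₀ : IsAffineOpen U₀)
    (hU₀V₀ : U₀ ≤ f₀ ⁻¹ᵁ V₀) (hflat : FlatMod.IsFlatOver f ((Scheme.Modules.pullback qX).obj F₀)) :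
    ∃ j : Over i₀, ∀ (k : Over i₀) (_ : k ⟶ j) (x' : ↥(pullback f₀ (pullback.fst g₀ (D.map k.hom)))),
      pullback.fst f₀ (pullback.fst g₀ (D.map k.hom)) x' ∈ U₀ →
        FlatMod.IsFlatOverAt (pullback.snd f₀ (pullback.fst g₀ (D.map k.hom)))
          ((Scheme.Modules.pullback (pullback.fst f₀ (pullback.fst g₀ (D.map k.hom)))).obj F₀) x' := by
  haveI : ∀ {i j : I} (φ : i ⟶ j), IsAffineHom (D.map φ) := fun φ => inferInstance
  haveI : IsAffineHom qY := MorphismProperty.of_isPullback hY.flip (isAffineHom_π_app D c hc i₀)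
  have hF₀q := QCoh.isQCoh_of_isFP hF₀
  let V : Y.Opens := qY ⁻¹ᵁ V₀
  have hV : IsAffineOpen V := hV₀.preimage qY
  letI : Algebra Γ(Y₀, V₀) Γ(X₀, U₀) := (f₀.appLE V₀ U₀ hU₀V₀).hom.toAlgebra
  letI : Algebra Γ(Y₀, V₀) Γ(Y, V) := (qY.appLE V₀ V le_rfl).hom.toAlgebra
  letI : Module Γ(Y₀, V₀) Γ(F₀, U₀) := Module.compHom _ (f₀.appLE V₀ U₀ hU₀V₀).hom
  haveI : IsScalarTower Γ(Y₀, V₀) Γ(X₀, U₀) Γ(F₀, U₀) := .of_algebraMap_smul fun _ _ => rfl
  haveI : Algebra.FinitePresentation Γ(Y₀, V₀) Γ(X₀, U₀) := f₀.finitePresentation_appLE hV₀ hU₀ hU₀V₀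
  haveI : Module.FinitePresentation Γ(X₀, U₀) Γ(F₀, U₀) := QCoh.finitePresentation_of_isFP hF₀ hU₀
  haveI : Module.Flat Γ(Y, V) (Γ(Y, V) ⊗[Γ(Y₀, V₀)] Γ(F₀, U₀)) :=
    (GrFlat5.flat_pullback_iff hX hF₀q hV₀ hU₀ hU₀V₀ hV (le_refl V)).2 fun x' _ _ => hflat x'
  obtain ⟨T, _, _, ψ, hT, hTflat⟩ := exists_fp_flat (A₀ := Γ(Y₀, V₀)) Γ(Y, V) (B₀ := Γ(X₀, U₀)) Γ(F₀, U₀)
    inferInstance
  let E := MorLib.BC.diag D g₀
  let cE := MorLib.BC.cone D g₀ hY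
  haveI : ∀ (a b : Over i₀) (t : a ⟶ b), IsAffineHom (E.map t) := fun a b t => inferInstance
  let o : Over i₀ := Over.mk (𝟙 i₀)
  let po : E.obj o ⟶ Y₀ := pullback.fst g₀ (D.map (𝟙 i₀))
  haveI : IsAffineHom po := MorLib.BC.isAffineHom_fst D g₀ o
  let Vo : (E.obj o).Opens := po ⁻¹ᵁ V₀
  have hcV : cE.π.app o ⁻¹ᵁ Vo = V := by
    show (cE.π.app o ≫ po) ⁻¹ᵁ V₀ = _
    rw [show cE.π.app o ≫ po = qY from MorLib.BC.proj_fst D g₀ hY o]
  let σ : T →+* Γ(Y, cE.π.app o ⁻¹ᵁ Vo) :=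
    (Y.presheaf.map (eqToHom hcV).op).hom.comp ψ.toRingHom
  obtain ⟨j, φ, σj, hσ₁, -⟩ := exists_algebra_stage E cE (MorLib.BC.isLimitCone D g₀ hY hc) (i := o)
    (hV₀.preimage po) (T := T) (po.appLE V₀ Vo le_rfl).hom σ (fun a => by
      show Y.presheaf.map (eqToHom hcV).op (ψ (algebraMap Γ(Y₀, V₀) T a)) = _
      rw [ψ.commutes]
      show Y.presheaf.map (eqToHom hcV).op (qY.appLE V₀ V le_rfl a) =
        (cE.π.app o).appLE Vo _ le_rfl (po.appLE V₀ Vo le_rfl a)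
      rw [← CommRingCat.comp_apply, Scheme.Hom.appLE_map, ← CommRingCat.comp_apply,
        Scheme.Hom.appLE_comp_appLE]
      simp only [show cE.π.app o ≫ po = qY from MorLib.BC.proj_fst D g₀ hY o]
      rfl)
  refine ⟨j, fun k τ x' hx' => ?_⟩
  let pY : pullback g₀ (D.map k.hom) ⟶ Y₀ := pullback.fst _ _
  let Vk : (pullback g₀ (D.map k.hom)).Opens := pY ⁻¹ᵁ V₀
  haveI : IsAffineHom pY := MorLib.BC.isAffineHom_fst D g₀ k
  have hVk : IsAffineOpen Vk := hV₀.preimage pY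
  letI : Algebra Γ(Y₀, V₀) Γ(pullback g₀ (D.map k.hom), Vk) := (pY.appLE V₀ Vk le_rfl).hom.toAlgebra
  have hmap : E.map (τ ≫ φ) ≫ po = pY := MorLib.BC.map_fst D g₀ _
  have hle : Vk ≤ E.map τ ⁻¹ᵁ (E.map φ ⁻¹ᵁ Vo) := le_of_eq (by
    show pY ⁻¹ᵁ V₀ = (E.map τ ≫ E.map φ ≫ po) ⁻¹ᵁ V₀
    rw [← Category.assoc, ← Functor.map_comp, hmap])
  letI : Algebra T Γ(pullback g₀ (D.map k.hom), Vk) :=
    (((E.map τ).appLE _ Vk hle).hom.comp σj).toAlgebra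
  haveI : IsScalarTower Γ(Y₀, V₀) T Γ(pullback g₀ (D.map k.hom), Vk) := .of_algebraMap_eq fun a => by
    show pY.appLE V₀ Vk le_rfl a = (E.map τ).appLE _ Vk hle (σj (algebraMap _ T a))
    rw [hσ₁]
    show _ = (E.map τ).appLE _ Vk hle ((E.map φ).appLE Vo _ le_rfl (po.appLE V₀ Vo le_rfl a))
    rw [← CommRingCat.comp_apply, ← CommRingCat.comp_apply, Scheme.Hom.appLE_comp_appLE,
      Scheme.Hom.appLE_comp_appLE]
    simp only [Category.assoc, ← Functor.map_comp_assoc, hmap]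
    rfl
  refine FlatStrat.isFlatOverAt_pullback (IsPullback.of_hasPullback f₀ pY) hF₀q hV₀ hU₀ hU₀V₀ hVk
    (le_refl Vk) x' hx' ?_ ?_
  · show (pullback.snd f₀ pY ≫ pY) x' ∈ V₀
    rw [← pullback.condition]
    exact hU₀V₀ hx'
  · haveI := hTflat
    exact Module.Flat.of_linearEquiv (AlgebraTensorModule.cancelBaseChange Γ(Y₀, V₀) T
      Γ(pullback g₀ (D.map k.hom), Vk) Γ(pullback g₀ (D.map k.hom), Vk) Γ(F₀, U₀)).symm

/-- Flatness over the limit holds at a stage. -/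
theorem exists_stage_flat_all [CompactSpace X₀] (hflat : FlatMod.IsFlatOver f ((Scheme.Modules.pullback qX).obj F₀)) :
    ∃ k : Over i₀, FlatMod.IsFlatOver (pullback.snd f₀ (pullback.fst g₀ (D.map k.hom)))
      ((Scheme.Modules.pullback (pullback.fst f₀ (pullback.fst g₀ (D.map k.hom)))).obj F₀) := by
  classical
  have hch : ∀ p : X₀, ∃ (V₀ : Y₀.Opens) (U₀ : X₀.Opens), IsAffineOpen V₀ ∧ IsAffineOpen U₀ ∧
      U₀ ≤ f₀ ⁻¹ᵁ V₀ ∧ p ∈ U₀ := by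
    intro p
    obtain ⟨V₀, hV₀, hp, -⟩ := exists_isAffineOpen_mem_and_subset (x := f₀ p) (U := ⊤) trivial
    obtain ⟨U₀, hU₀, hpU, hle⟩ := exists_isAffineOpen_mem_and_subset (x := p) (U := f₀ ⁻¹ᵁ V₀) hp
    exact ⟨V₀, U₀, hV₀, hU₀, hle, hpU⟩
  choose V₀ U₀ hV₀ hU₀ hle hmem using hch
  obtain ⟨S, hS⟩ := isCompact_univ.elim_finite_subcover (fun p => (U₀ p : Set X₀)) (fun p => (U₀ p).2)
    fun p _ => Set.mem_iUnion.2 ⟨p, hmem p⟩
  choose j hj using fun p => exists_stage_flat_chart D c hc i₀ f₀ g₀ hF₀ f g qY qX hY hX (hV₀ p) (hU₀ p) (hle p) hflat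
  obtain ⟨k, hk⟩ := IsCofiltered.inf_objs_exists (S.image j)
  refine ⟨k, fun x' => ?_⟩
  obtain ⟨p, hp, hx'⟩ := Set.mem_iUnion₂.1 (hS (Set.mem_univ (pullback.fst f₀ (pullback.fst g₀ (D.map k.hom)) x')))
  exact hj p k (hk (Finset.mem_image_of_mem j hp)).some x' hx'

end

end Groth.Agent.FibFlatMod
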