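import Groth.Agent.FibFlatMod.StageScheme
import Groth.Agent.MorLib.BaseChangeLim

/-!
# Injectivity with flat cokernel at a point descends along limits
-/

set_option autoImplicit false
set_option linter.style.haveILetI false
set_option backward.isDefEq.respectTransparency false
set_option backward.isDefEq.respectTransparency.types false

universe u

open CategoryTheory Limits AlgebraicGeometry TensorProduct

namespace Groth.Agent.FibFlatMod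

open Groth.Agent

/-- Germs and morphisms. -/
theorem germ_appLE {X Z : Scheme.{u}} (v : X ⟶ Z) {W : Z.Opens} {U : X.Opens} (hle : U ≤ v ⁻¹ᵁ W) {x : X}
    (hx : x ∈ U) (r : Γ(Z, W)) :
    X.presheaf.germ U x hx (v.appLE W U hle r) = v.stalkMap x (Z.presheaf.germ W (v x) (hle hx) r) := by
  rw [Scheme.Hom.germ_stalkMap_apply v W x (hle hx) r, Scheme.Hom.appLE, CommRingCat.comp_apply,
    TopCat.Presheaf.germ_res_apply]

/-- Injectivity with flat cokernel is preserved by base change. -/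
theorem inj_coker_flat_baseChange {X Xi X₀ Y Yi : Scheme.{u}} {v : X ⟶ Xi} {f : X ⟶ Y} {fi : Xi ⟶ Yi}
    {w : Y ⟶ Yi} (hc : IsPullback v f fi w) (pX : Xi ⟶ X₀) (qX : X ⟶ X₀) (hq : v ≫ pX = qX)
    {F₀ G₀ : X₀.Modules} (hF₀ : Coh.IsQCoh F₀) (hG₀ : Coh.IsQCoh G₀) (h₀ : F₀ ⟶ G₀) (x : X)
    (h : Function.Injective (stalkLin ((Scheme.Modules.pullback pX).map h₀) (v x)) ∧
      FlatMod.IsFlatOverAt fi (cokernel ((Scheme.Modules.pullback pX).map h₀)) (v x)) :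
    Function.Injective (stalkLin ((Scheme.Modules.pullback qX).map h₀) x) ∧
      FlatMod.IsFlatOverAt f (cokernel ((Scheme.Modules.pullback qX).map h₀)) x := by
  subst hq
  obtain ⟨Vi, hVi, hzVi, -⟩ := exists_isAffineOpen_mem_and_subset (x := fi (v x)) (U := ⊤) trivial
  obtain ⟨U₀, hU₀, hzU₀, -⟩ := exists_isAffineOpen_mem_and_subset (x := pX (v x)) (U := ⊤) trivial
  obtain ⟨Ui, hUi, hzUi, hUi'⟩ := exists_isAffineOpen_mem_and_subset (x := v x) (U := pX ⁻¹ᵁ U₀ ⊓ fi ⁻¹ᵁ Vi)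
    ⟨hzU₀, hzVi⟩
  have hxV : f x ∈ w ⁻¹ᵁ Vi := by
    show w (f x) ∈ Vi
    rw [← Scheme.Hom.comp_apply, ← hc.w]; exact hzVi
  obtain ⟨V, hV, hxV', hVle⟩ := exists_isAffineOpen_mem_and_subset (x := f x) (U := w ⁻¹ᵁ Vi) hxV
  have hUiU₀ : Ui ≤ pX ⁻¹ᵁ U₀ := fun z hz => (hUi' hz).1
  have hUiVi : Ui ≤ fi ⁻¹ᵁ Vi := fun z hz => (hUi' hz).2
  let U : X.Opens := v ⁻¹ᵁ Ui ⊓ f ⁻¹ᵁ V
  have hx : x ∈ U := ⟨hzUi, hxV'⟩
  obtain ⟨hU, i1, i2, hpo⟩ := isPushout_sections hc hVi hUi hUiVi hV hVle (W := U) rfl inf_le_left inf_le_right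
  have hleU : U ≤ (v ≫ pX) ⁻¹ᵁ U₀ := fun z hz => hUiU₀ hz.1
  refine (goodAt_iff f (v ≫ pX) hF₀ hG₀ h₀ hU₀ hU hleU hV inf_le_right hx).2 ?_
  have hz := (goodAt_iff fi pX hF₀ hG₀ h₀ hU₀ hUi hUiU₀ hVi hUiVi hzUi).1 h
  letI : Algebra Γ(Yi, Vi) Γ(Xi, Ui) := (fi.appLE Vi Ui hUiVi).hom.toAlgebra
  letI : Algebra Γ(Yi, Vi) Γ(Y, V) := (w.appLE Vi V hVle).hom.toAlgebra
  letI : Algebra Γ(Xi, Ui) Γ(X, U) := (v.appLE Ui U inf_le_left).hom.toAlgebra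
  letI : Algebra Γ(Y, V) Γ(X, U) := (f.appLE V U inf_le_right).hom.toAlgebra
  letI : Algebra Γ(Yi, Vi) Γ(X, U) := (fi.appLE Vi Ui hUiVi ≫ v.appLE Ui U inf_le_left).hom.toAlgebra
  haveI := i1; haveI := i2; haveI := hpo
  letI := QCoh.stalkAlg (X := Xi) hzUi
  letI := QCoh.stalkAlg (X := X) hx
  haveI := QCoh.isLocalization_stalk' hUi hzUi
  haveI := QCoh.isLocalization_stalk' hU hx
  haveI : Module.Flat Γ(X, U) (X.presheaf.stalk x) :=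
    IsLocalization.flat _ (hU.primeIdealOf ⟨x, hx⟩).asIdeal.primeCompl
  letI : Algebra Γ(X₀, U₀) (Xi.presheaf.stalk (v x)) :=
    (pX.appLE U₀ Ui hUiU₀ ≫ Xi.presheaf.germ Ui (v x) hzUi).hom.toAlgebra
  letI : Algebra Γ(Yi, Vi) (Xi.presheaf.stalk (v x)) :=
    (fi.appLE Vi Ui hUiVi ≫ Xi.presheaf.germ Ui (v x) hzUi).hom.toAlgebra
  letI : Algebra Γ(X₀, U₀) (X.presheaf.stalk x) :=
    ((v ≫ pX).appLE U₀ U hleU ≫ X.presheaf.germ U x hx).hom.toAlgebra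
  letI : Algebra Γ(Y, V) (X.presheaf.stalk x) := (f.appLE V U inf_le_right ≫ X.presheaf.germ U x hx).hom.toAlgebra
  letI : Algebra Γ(Xi, Ui) (X.presheaf.stalk x) :=
    ((algebraMap Γ(X, U) (X.presheaf.stalk x)).comp (algebraMap Γ(Xi, Ui) Γ(X, U))).toAlgebra
  letI : Algebra (Xi.presheaf.stalk (v x)) (X.presheaf.stalk x) := (v.stalkMap x).hom.toAlgebra
  haveI : IsScalarTower Γ(Xi, Ui) Γ(X, U) (X.presheaf.stalk x) := .of_algebraMap_eq fun _ => rfl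
  haveI : IsScalarTower Γ(Y, V) Γ(X, U) (X.presheaf.stalk x) := .of_algebraMap_eq fun _ => rfl
  haveI : IsScalarTower Γ(Yi, Vi) Γ(Xi, Ui) (Xi.presheaf.stalk (v x)) := .of_algebraMap_eq fun _ => rfl
  haveI : IsScalarTower Γ(Xi, Ui) (Xi.presheaf.stalk (v x)) (X.presheaf.stalk x) := .of_algebraMap_eq fun r =>
    germ_appLE v inf_le_left hx r
  haveI : IsScalarTower Γ(X₀, U₀) (Xi.presheaf.stalk (v x)) (X.presheaf.stalk x) := .of_algebraMap_eq fun r => by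
    show X.presheaf.germ U x hx ((v ≫ pX).appLE U₀ U hleU r) =
      v.stalkMap x (Xi.presheaf.germ Ui (v x) hzUi (pX.appLE U₀ Ui hUiU₀ r))
    rw [← germ_appLE v (inf_le_left : U ≤ v ⁻¹ᵁ Ui) hx, ← CommRingCat.comp_apply (pX.appLE _ _ _),
      Scheme.Hom.appLE_comp_appLE]
  exact hz.baseChange (T := Γ(Yi, Vi)) (BT := Γ(Xi, Ui)) (B := Γ(X, U))
    (hUi.primeIdealOf ⟨v x, hzUi⟩).asIdeal.primeCompl (QCoh.appLin h₀ U₀) (QCoh.appLin (cokernel.π h₀) U₀)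
    (fun y => ⟨fun hy => (locRange_of_isQCoh hF₀ hG₀ h₀).mem_range hU₀ y hy,
      by rintro ⟨a, rfl⟩; exact QCoh.cokernel_π_app_app a⟩)
    ((locRange_of_isQCoh hF₀ hG₀ h₀).surjective hU₀)

attribute [local instance] Algebra.TensorProduct.rightAlgebra in
set_option maxHeartbeats 400000 in
/-- Good behaviour over a finitely presented stage passes to a stage of the limit receiving it. -/
theorem goodAt_of_stage {A₀ A B₀ M N C : Type u} [CommRing A₀] [CommRing A] [CommRing B₀] [Algebra A₀ A]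
    [Algebra A₀ B₀] [AddCommGroup M] [Module B₀ M] [AddCommGroup N] [Module B₀ N] [AddCommGroup C] [Module B₀ C]
    {X Z : Scheme.{u}} {v : X ⟶ Z} {U : X.Opens} {W : Z.Opens}
    [Algebra A₀ Γ(X, U)] [Algebra A Γ(X, U)] [Algebra B₀ Γ(X, U)]
    [IsScalarTower A₀ A Γ(X, U)] [IsScalarTower A₀ B₀ Γ(X, U)]
    {A₁ : Type u} [CommRing A₁] [Algebra A₀ A₁] [Algebra A₀ Γ(Z, W)] [Algebra A₁ Γ(Z, W)] [Algebra B₀ Γ(Z, W)]
    [IsScalarTower A₀ A₁ Γ(Z, W)] [IsScalarTower A₀ B₀ Γ(Z, W)] [Algebra.IsPushout A₀ A₁ B₀ Γ(Z, W)]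
    (l : M →ₗ[B₀] N) (q : N →ₗ[B₀] C) (hlq : Function.Exact l q) (hq : Function.Surjective q)
    (T : Type u) [CommRing T] [Algebra A₀ T] [Algebra T A] [IsScalarTower A₀ T A] [Algebra T A₁]
    [IsScalarTower A₀ T A₁] [Algebra T Γ(Z, W)] [IsScalarTower T A₁ Γ(Z, W)]
    (hU : IsAffineOpen U) {x : X} (hx : x ∈ U) (hW : IsAffineOpen W) (hz : v x ∈ W) (hle : U ≤ v ⁻¹ᵁ W)
    (hcompT : ∀ t : T, algebraMap A Γ(X, U) (algebraMap T A t) =
      v.appLE W U hle (algebraMap A₁ Γ(Z, W) (algebraMap T A₁ t)))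
    (hcompB : ∀ b : B₀, algebraMap B₀ Γ(X, U) b = v.appLE W U hle (algebraMap B₀ Γ(Z, W) b))
    (h : GoodAt l C T (Localization.AtPrime
      ((hU.primeIdealOf ⟨x, hx⟩).asIdeal.comap (stageMap (A₀ := A₀) A B₀ Γ(X, U) T).toRingHom))) :
    letI : Algebra B₀ (Z.presheaf.stalk (v x)) :=
      ((Z.presheaf.germ W (v x) hz).hom.comp (algebraMap B₀ Γ(Z, W))).toAlgebra
    letI : Algebra A₁ (Z.presheaf.stalk (v x)) :=
      ((Z.presheaf.germ W (v x) hz).hom.comp (algebraMap A₁ Γ(Z, W))).toAlgebra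
    GoodAt l C A₁ (Z.presheaf.stalk (v x)) := by
  letI : Algebra B₀ (Z.presheaf.stalk (v x)) :=
    ((Z.presheaf.germ W (v x) hz).hom.comp (algebraMap B₀ Γ(Z, W))).toAlgebra
  letI : Algebra A₁ (Z.presheaf.stalk (v x)) :=
    ((Z.presheaf.germ W (v x) hz).hom.comp (algebraMap A₁ Γ(Z, W))).toAlgebra
  let χ := stageMap (A₀ := A₀) A₁ B₀ Γ(Z, W) T
  have hχ : ∀ s, v.appLE W U hle (χ s) = stageMap (A₀ := A₀) A B₀ Γ(X, U) T s := by
    intro s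
    induction s using TensorProduct.induction_on with
    | zero => simp
    | tmul t b => simp [χ, stageMap, map_mul, hcompT, hcompB]
    | add a b ha hb => simp only [map_add, ha, hb]
  letI : Algebra (T ⊗[A₀] B₀) Γ(Z, W) := χ.toRingHom.toAlgebra
  haveI : IsScalarTower T (T ⊗[A₀] B₀) Γ(Z, W) := .of_algebraMap_eq fun t => by
    show algebraMap T Γ(Z, W) t = χ (t ⊗ₜ 1)
    simp [χ, stageMap, ← IsScalarTower.algebraMap_apply]
  haveI : IsScalarTower B₀ (T ⊗[A₀] B₀) Γ(Z, W) := .of_algebraMap_eq fun b => by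
    show algebraMap B₀ Γ(Z, W) b = χ (1 ⊗ₜ b)
    simp [χ, stageMap]
  haveI : IsScalarTower A₀ (T ⊗[A₀] B₀) Γ(Z, W) := .of_algebraMap_eq fun a => (χ.commutes a).symm
  haveI : Algebra.IsPushout T A₁ (T ⊗[A₀] B₀) Γ(Z, W) :=
    (Algebra.IsPushout.comp_iff (R := A₀) (S := T) (R' := B₀) (S' := T ⊗[A₀] B₀) (T := A₁) (T' := Γ(Z, W))).1
      inferInstance
  letI := QCoh.stalkAlg (X := Z) hz
  haveI := QCoh.isLocalization_stalk' hW hz
  haveI : Module.Flat Γ(Z, W) (Z.presheaf.stalk (v x)) :=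
    IsLocalization.flat _ (hW.primeIdealOf ⟨v x, hz⟩).asIdeal.primeCompl
  letI : Algebra (T ⊗[A₀] B₀) (Z.presheaf.stalk (v x)) :=
    ((Z.presheaf.germ W (v x) hz).hom.comp χ.toRingHom).toAlgebra
  letI := QCoh.stalkAlg (X := X) hx
  haveI := QCoh.isLocalization_stalk' hU hx
  let Q := (hU.primeIdealOf ⟨x, hx⟩).asIdeal.comap (stageMap (A₀ := A₀) A B₀ Γ(X, U) T).toRingHom
  have hunit : ∀ s : Q.primeCompl, IsUnit (algebraMap (T ⊗[A₀] B₀) (Z.presheaf.stalk (v x)) s) := by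
    intro s
    refine IsUnit.of_map (v.stalkMap x).hom _ ?_
    show IsUnit (v.stalkMap x (Z.presheaf.germ W (v x) hz (χ (s : T ⊗[A₀] B₀))))
    rw [← germ_appLE v hle hx, hχ]
    exact IsLocalization.map_units (X.presheaf.stalk x)
      (⟨stageMap (A₀ := A₀) A B₀ Γ(X, U) T (s : T ⊗[A₀] B₀), s.2⟩ : (hU.primeIdealOf ⟨x, hx⟩).asIdeal.primeCompl)
  letI : Algebra (Localization.AtPrime Q) (Z.presheaf.stalk (v x)) := (IsLocalization.lift hunit).toAlgebra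
  haveI : IsScalarTower (T ⊗[A₀] B₀) (Localization.AtPrime Q) (Z.presheaf.stalk (v x)) :=
    .of_algebraMap_eq fun s => (IsLocalization.lift_eq hunit s).symm
  haveI : IsScalarTower (T ⊗[A₀] B₀) Γ(Z, W) (Z.presheaf.stalk (v x)) := .of_algebraMap_eq fun _ => rfl
  haveI : IsScalarTower A₁ Γ(Z, W) (Z.presheaf.stalk (v x)) := .of_algebraMap_eq fun _ => rfl
  haveI : IsScalarTower B₀ (Localization.AtPrime Q) (Z.presheaf.stalk (v x)) := .of_algebraMap_eq fun b => by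
    rw [IsScalarTower.algebraMap_apply B₀ (T ⊗[A₀] B₀) (Localization.AtPrime Q),
      ← IsScalarTower.algebraMap_apply (T ⊗[A₀] B₀) (Localization.AtPrime Q) (Z.presheaf.stalk (v x))]
    show Z.presheaf.germ W (v x) hz (algebraMap B₀ Γ(Z, W) b) =
      Z.presheaf.germ W (v x) hz (χ (algebraMap B₀ (T ⊗[A₀] B₀) b))
    rw [show χ (algebraMap B₀ (T ⊗[A₀] B₀) b) = algebraMap B₀ Γ(Z, W) b from
      (IsScalarTower.algebraMap_apply B₀ (T ⊗[A₀] B₀) Γ(Z, W) b).symm]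
  exact h.baseChange (T := T) (BT := T ⊗[A₀] B₀) (B := Γ(Z, W)) Q.primeCompl l q hlq hq

set_option maxHeartbeats 800000 in
/-- Injectivity with flat cokernel at a point of a limit holds at a stage. -/
theorem exists_stage_inj_coker_flat {I : Type u} [SmallCategory I] [IsCofiltered I]
    (D : I ⥤ Scheme.{u}) (c : Limits.Cone D) (hc : Limits.IsLimit c)
    [∀ (i j : I) (φ : i ⟶ j), IsAffineHom (D.map φ)] (i₀ : I)
    {X₀ Y₀ : Scheme.{u}} (f₀ : X₀ ⟶ Y₀) (g₀ : Y₀ ⟶ D.obj i₀) [LocallyOfFinitePresentation f₀]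
    {F₀ G₀ : X₀.Modules} (hF₀ : CohB1.IsFP F₀) (hG₀ : CohB1.IsFP G₀) (h₀ : F₀ ⟶ G₀)
    {X Y : Scheme.{u}} (f : X ⟶ Y) (g : Y ⟶ c.pt) (qY : Y ⟶ Y₀) (qX : X ⟶ X₀)
    (hY : IsPullback qY g g₀ (c.π.app i₀)) (hX : IsPullback qX f f₀ qY) (x : X)
    (hgood : Function.Injective (stalkLin ((Scheme.Modules.pullback qX).map h₀) x) ∧
      FlatMod.IsFlatOverAt f (cokernel ((Scheme.Modules.pullback qX).map h₀)) x) :
    ∃ (i : I) (φ : i ⟶ i₀) (Xi Yi : Scheme.{u}) (fi : Xi ⟶ Yi) (gi : Yi ⟶ D.obj i)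
      (pY : Yi ⟶ Y₀) (pX : Xi ⟶ X₀) (vY : Y ⟶ Yi) (vX : X ⟶ Xi),
      IsPullback pY gi g₀ (D.map φ) ∧ IsPullback pX fi f₀ pY ∧
        vY ≫ pY = qY ∧ vY ≫ gi = g ≫ c.π.app i ∧ vX ≫ pX = qX ∧ vX ≫ fi = f ≫ vY ∧
        Function.Injective (stalkLin ((Scheme.Modules.pullback pX).map h₀) (vX x)) ∧
        FlatMod.IsFlatOverAt fi (cokernel ((Scheme.Modules.pullback pX).map h₀)) (vX x) := by
  have hF₀q := QCoh.isQCoh_of_isFP hF₀
  have hG₀q := QCoh.isQCoh_of_isFP hG₀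
  haveI : ∀ {i j : I} (φ : i ⟶ j), IsAffineHom (D.map φ) := fun φ => inferInstance
  let E := MorLib.BC.diag D g₀
  let cE := MorLib.BC.cone D g₀ hY
  have hcE : IsLimit cE := MorLib.BC.isLimitCone D g₀ hY hc
  haveI : ∀ (a b : Over i₀) (t : a ⟶ b), IsAffineHom (E.map t) := fun a b t => inferInstance
  haveI : IsAffineHom qY := MorphismProperty.of_isPullback hY.flip (isAffineHom_π_app D c hc i₀)
  obtain ⟨V₀, hV₀, hyV₀, -⟩ := exists_isAffineOpen_mem_and_subset (x := qY (f x)) (U := ⊤) trivial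
  have hxV₀ : qX x ∈ f₀ ⁻¹ᵁ V₀ := by
    show f₀ (qX x) ∈ V₀
    rw [← Scheme.Hom.comp_apply, hX.w]; exact hyV₀
  obtain ⟨U₀, hU₀, hxU₀, hU₀V₀'⟩ := exists_isAffineOpen_mem_and_subset (x := qX x) (U := f₀ ⁻¹ᵁ V₀) hxV₀
  have hU₀V₀ : U₀ ≤ f₀ ⁻¹ᵁ V₀ := hU₀V₀'
  let V : Y.Opens := qY ⁻¹ᵁ V₀
  have hV : IsAffineOpen V := hV₀.preimage qY
  let U : X.Opens := qX ⁻¹ᵁ U₀ ⊓ f ⁻¹ᵁ V
  have hx : x ∈ U := ⟨hxU₀, hyV₀⟩
  obtain ⟨hU, i1, i2, hpo⟩ := isPushout_sections hX hV₀ hU₀ hU₀V₀ hV (le_refl V) (W := U) rfl inf_le_left inf_le_right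
  have hG := (goodAt_iff f qX hF₀q hG₀q h₀ hU₀ hU inf_le_left hV inf_le_right hx).1 hgood
  letI : Algebra Γ(Y₀, V₀) Γ(X₀, U₀) := (f₀.appLE V₀ U₀ hU₀V₀).hom.toAlgebra
  letI : Algebra Γ(Y₀, V₀) Γ(Y, V) := (qY.appLE V₀ V le_rfl).hom.toAlgebra
  letI : Algebra Γ(X₀, U₀) Γ(X, U) := (qX.appLE U₀ U inf_le_left).hom.toAlgebra
  letI : Algebra Γ(Y, V) Γ(X, U) := (f.appLE V U inf_le_right).hom.toAlgebra
  letI : Algebra Γ(Y₀, V₀) Γ(X, U) := (f₀.appLE V₀ U₀ hU₀V₀ ≫ qX.appLE U₀ U inf_le_left).hom.toAlgebra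
  haveI := i1; haveI := i2; haveI := hpo
  haveI : Algebra.FinitePresentation Γ(Y₀, V₀) Γ(X₀, U₀) := f₀.finitePresentation_appLE hV₀ hU₀ hU₀V₀
  letI := QCoh.stalkAlg (X := X) hx
  haveI := QCoh.isLocalization_stalk' hU hx
  letI : Algebra Γ(X₀, U₀) (X.presheaf.stalk x) :=
    (qX.appLE U₀ U inf_le_left ≫ X.presheaf.germ U x hx).hom.toAlgebra
  letI : Algebra Γ(Y, V) (X.presheaf.stalk x) := (f.appLE V U inf_le_right ≫ X.presheaf.germ U x hx).hom.toAlgebra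
  haveI : IsScalarTower Γ(X₀, U₀) Γ(X, U) (X.presheaf.stalk x) := .of_algebraMap_eq fun _ => rfl
  haveI : IsScalarTower Γ(Y, V) Γ(X, U) (X.presheaf.stalk x) := .of_algebraMap_eq fun _ => rfl
  haveI : Module.FinitePresentation Γ(X₀, U₀) Γ(F₀, U₀) := QCoh.finitePresentation_of_isFP hF₀ hU₀
  haveI : Module.FinitePresentation Γ(X₀, U₀) Γ(G₀, U₀) := QCoh.finitePresentation_of_isFP hG₀ hU₀
  have hR := locRange_of_isQCoh hF₀q hG₀q h₀
  have hex : Function.Exact (QCoh.appLin h₀ U₀) (QCoh.appLin (cokernel.π h₀) U₀) := fun y =>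
    ⟨fun hy => hR.mem_range hU₀ y hy, by rintro ⟨a, rfl⟩; exact QCoh.cokernel_π_app_app a⟩
  obtain ⟨T, _, _, _, _, hT, hGT⟩ := exists_stage_goodAt (A₀ := Γ(Y₀, V₀)) (A := Γ(Y, V))
    (QCoh.appLin h₀ U₀) (QCoh.appLin (cokernel.π h₀) U₀) hex (hR.surjective hU₀)
    (hU.primeIdealOf ⟨x, hx⟩).asIdeal hG
  -- the stage
  let o : Over i₀ := Over.mk (𝟙 i₀)
  let po : E.obj o ⟶ Y₀ := pullback.fst g₀ (D.map (𝟙 i₀))
  haveI : IsAffineHom po := MorLib.BC.isAffineHom_fst D g₀ o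
  let Vo : (E.obj o).Opens := po ⁻¹ᵁ V₀
  have hcV : cE.π.app o ⁻¹ᵁ Vo = V := by
    show (cE.π.app o ≫ po) ⁻¹ᵁ V₀ = _
    rw [show cE.π.app o ≫ po = qY from MorLib.BC.proj_fst D g₀ hY o]
  let σ : T →+* Γ(Y, cE.π.app o ⁻¹ᵁ Vo) :=
    (Y.presheaf.map (eqToHom hcV).op).hom.comp (algebraMap T Γ(Y, V))
  obtain ⟨j, φ, σj, hσ₁, hσ₂⟩ := exists_algebra_stage E cE hcE (i := o) (hV₀.preimage po) (T := T)
    (po.appLE V₀ Vo le_rfl).hom σ (fun a => by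
      show Y.presheaf.map (eqToHom hcV).op (algebraMap T Γ(Y, V) (algebraMap Γ(Y₀, V₀) T a)) = _
      rw [← IsScalarTower.algebraMap_apply]
      show Y.presheaf.map (eqToHom hcV).op (qY.appLE V₀ V le_rfl a) =
        (cE.π.app o).appLE Vo _ le_rfl (po.appLE V₀ Vo le_rfl a)
      rw [← CommRingCat.comp_apply, Scheme.Hom.appLE_map, ← CommRingCat.comp_apply,
        Scheme.Hom.appLE_comp_appLE]
      simp only [show cE.π.app o ≫ po = qY from MorLib.BC.proj_fst D g₀ hY o]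
      rfl)
  let pY : pullback g₀ (D.map j.hom) ⟶ Y₀ := pullback.fst _ _
  have hmap : E.map φ ≫ po = pY := MorLib.BC.map_fst D g₀ φ
  let Vi : (pullback g₀ (D.map j.hom)).Opens := E.map φ ⁻¹ᵁ Vo
  have hVi : IsAffineOpen Vi := (hV₀.preimage po).preimage (E.map φ)
  have hViV₀ : Vi ≤ pY ⁻¹ᵁ V₀ := le_of_eq (by rw [← hmap]; rfl)
  let vY : Y ⟶ pullback g₀ (D.map j.hom) := MorLib.BC.proj D g₀ hY j
  have hvY₁ : vY ≫ pY = qY := MorLib.BC.proj_fst D g₀ hY j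
  let fi := pullback.snd f₀ pY
  let pX := pullback.fst f₀ pY
  let vX : X ⟶ pullback f₀ pY := pullback.lift qX (f ≫ vY) (by rw [Category.assoc, hvY₁, hX.w])
  have hvX₁ : vX ≫ pX = qX := pullback.lift_fst _ _ _
  have hvX₂ : vX ≫ fi = f ≫ vY := pullback.lift_snd _ _ _
  refine ⟨j.left, j.hom, _, _, fi, pullback.snd g₀ (D.map j.hom), pY, pX, vY, vX,
    IsPullback.of_hasPullback _ _, IsPullback.of_hasPullback _ _, hvY₁, MorLib.BC.proj_snd D g₀ hY j, hvX₁,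
    hvX₂, ?_⟩
  let Ui : (pullback f₀ pY).Opens := pX ⁻¹ᵁ U₀ ⊓ fi ⁻¹ᵁ Vi
  have hVle : V ≤ vY ⁻¹ᵁ Vi := by
    show V ≤ (cE.π.app j ≫ E.map φ) ⁻¹ᵁ Vo
    rw [cE.w, hcV]
  have hz : vX x ∈ Ui := by
    refine ⟨?_, ?_⟩
    · show (vX ≫ pX) x ∈ U₀
      rw [hvX₁]; exact hxU₀
    · show (vX ≫ fi) x ∈ Vi
      rw [hvX₂]; exact hVle hyV₀
  obtain ⟨hUi, j1, j2, hpi⟩ := isPushout_sections (IsPullback.of_hasPullback f₀ pY) hV₀ hU₀ hU₀V₀ hVi hViV₀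
    (W := Ui) rfl inf_le_left inf_le_right
  refine (goodAt_iff fi pX hF₀q hG₀q h₀ hU₀ hUi inf_le_left hVi inf_le_right hz).2 ?_
  letI : Algebra Γ(Y₀, V₀) Γ(pullback g₀ (D.map j.hom), Vi) := (pY.appLE V₀ Vi hViV₀).hom.toAlgebra
  letI : Algebra Γ(X₀, U₀) Γ(pullback f₀ pY, Ui) := (pX.appLE U₀ Ui inf_le_left).hom.toAlgebra
  letI : Algebra Γ(pullback g₀ (D.map j.hom), Vi) Γ(pullback f₀ pY, Ui) :=
    (fi.appLE Vi Ui inf_le_right).hom.toAlgebra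
  letI : Algebra Γ(Y₀, V₀) Γ(pullback f₀ pY, Ui) := (f₀.appLE V₀ U₀ hU₀V₀ ≫ pX.appLE U₀ Ui inf_le_left).hom.toAlgebra
  haveI := j1; haveI := j2; haveI := hpi
  letI : Algebra T Γ(pullback g₀ (D.map j.hom), Vi) := RingHom.toAlgebra σj
  haveI : IsScalarTower Γ(Y₀, V₀) T Γ(pullback g₀ (D.map j.hom), Vi) := .of_algebraMap_eq fun a => by
    show pY.appLE V₀ Vi hViV₀ a = σj (algebraMap _ T a)
    rw [hσ₁]
    show _ = (E.map φ).appLE Vo Vi le_rfl (po.appLE V₀ Vo le_rfl a)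
    rw [← CommRingCat.comp_apply, Scheme.Hom.appLE_comp_appLE]
    simp only [hmap]
    rfl
  letI : Algebra T Γ(pullback f₀ pY, Ui) :=
    ((algebraMap Γ(pullback g₀ (D.map j.hom), Vi) Γ(pullback f₀ pY, Ui)).comp σj).toAlgebra
  haveI : IsScalarTower T Γ(pullback g₀ (D.map j.hom), Vi) Γ(pullback f₀ pY, Ui) := .of_algebraMap_eq fun _ => rfl
  refine goodAt_of_stage (A₀ := Γ(Y₀, V₀)) (v := vX) (QCoh.appLin h₀ U₀) (QCoh.appLin (cokernel.π h₀) U₀) hex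
    (hR.surjective hU₀) T hU hx hUi hz
    (fun y hy => ⟨by show (vX ≫ pX) y ∈ U₀; rw [hvX₁]; exact hy.1,
      by show (vX ≫ fi) y ∈ Vi; rw [hvX₂]; exact hVle hy.2⟩) (fun y => ?_) (fun b => ?_) hGT
  · show f.appLE V U inf_le_right (algebraMap T Γ(Y, V) y) =
      vX.appLE Ui U _ (fi.appLE Vi Ui inf_le_right (σj y))
    rw [← CommRingCat.comp_apply (fi.appLE _ _ _), Scheme.Hom.appLE_comp_appLE]
    simp only [hvX₂]
    rw [← Scheme.Hom.appLE_comp_appLE f vY Vi V U hVle inf_le_right, CommRingCat.comp_apply]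
    congr 1
    have h1 := congrArg (Y.presheaf.map (eqToHom hcV.symm).op) (hσ₂ y)
    refine Eq.trans ?_ (h1.symm.trans (ConcreteCategory.congr_hom (Scheme.Hom.appLE_map _ _ _) (σj y)))
    show _ = Y.presheaf.map (eqToHom hcV.symm).op (Y.presheaf.map (eqToHom hcV).op (algebraMap T Γ(Y, V) y))
    rw [← CommRingCat.comp_apply, ← Functor.map_comp]
    simp
  · show qX.appLE U₀ U inf_le_left b = vX.appLE Ui U _ (pX.appLE U₀ Ui inf_le_left b)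
    rw [← CommRingCat.comp_apply, Scheme.Hom.appLE_comp_appLE]
    simp only [hvX₁]

end Groth.Agent.FibFlatMod
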