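import Groth.Agent.FibFlatMod.StageDescend
import Groth.Agent.ExistEasy.PP.PullSec
import Groth.Agent.LimMod.Stage
import Groth.Agent.LimMod.Exact
import Groth.Agent.GrFlat5.FlatAtIso

/-!
# Injectivity with flat cokernel, on schemes and on sections
-/

set_option autoImplicit false
set_option linter.style.haveILetI false
set_option backward.isDefEq.respectTransparency false
set_option backward.isDefEq.respectTransparency.types false

universe u

open CategoryTheory Limits AlgebraicGeometry TensorProduct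

namespace Groth.Agent.FibFlatMod

open Groth.Agent

variable {X X₀ Y : Scheme.{u}}

/-- The stalk of an inverse image, from sections. -/
theorem exists_stalk_equiv (q : X ⟶ X₀) {M : X₀.Modules} (hM : Coh.IsQCoh M) {U₀ : X₀.Opens}
    (hU₀ : IsAffineOpen U₀) {U : X.Opens} (hU : IsAffineOpen U) (hle : U ≤ q ⁻¹ᵁ U₀) {x : X} (hx : x ∈ U) :
    letI : Algebra Γ(X₀, U₀) (X.presheaf.stalk x) := (q.appLE U₀ U hle ≫ X.presheaf.germ U x hx).hom.toAlgebra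
    ∃ e : X.presheaf.stalk x ⊗[Γ(X₀, U₀)] Γ(M, U₀) ≃ₗ[X.presheaf.stalk x]
        ((Scheme.Modules.pullback q).obj M).presheaf.stalk x,
      ∀ m, e (1 ⊗ₜ m) = ((Scheme.Modules.pullback q).obj M).presheaf.germ U x hx (QCoh.pullSec q M hle m) := by
  let N := (Scheme.Modules.pullback q).obj M
  letI : Algebra Γ(X₀, U₀) Γ(X, U) := (q.appLE U₀ U hle).hom.toAlgebra
  letI : Module Γ(X₀, U₀) Γ(N, U) := Module.compHom _ (q.appLE U₀ U hle).hom
  haveI : IsScalarTower Γ(X₀, U₀) Γ(X, U) Γ(N, U) :=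
    ⟨fun a b c => mul_smul ((q.appLE U₀ U hle).hom a) b c⟩
  obtain ⟨l, hl, hb⟩ := ExistEasy.exists_pullSec_baseChange q hM hU hU₀ hle
  letI := QCoh.stalkAlg (X := X) hx
  letI := QCoh.stalkModule N hx
  haveI := QCoh.isScalarTower_stalk N hx
  letI : Algebra Γ(X₀, U₀) (X.presheaf.stalk x) := (q.appLE U₀ U hle ≫ X.presheaf.germ U x hx).hom.toAlgebra
  haveI : IsScalarTower Γ(X₀, U₀) Γ(X, U) (X.presheaf.stalk x) := .of_algebraMap_eq fun _ => rfl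
  letI : Module Γ(X₀, U₀) (N.presheaf.stalk x) :=
    Module.compHom _ (algebraMap Γ(X₀, U₀) (X.presheaf.stalk x))
  haveI : IsScalarTower Γ(X₀, U₀) (X.presheaf.stalk x) (N.presheaf.stalk x) := .of_algebraMap_smul fun _ _ => rfl
  haveI : IsScalarTower Γ(X₀, U₀) Γ(X, U) (N.presheaf.stalk x) := .of_algebraMap_smul fun _ _ => rfl
  haveI := QCoh.isLocalization_stalk' hU hx
  haveI := QCoh.isLocalizedModule_germLin (QCoh.isQCoh_pullback q hM) hU hx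
  have hb' := hb.comp (IsLocalizedModule.isBaseChange (hU.primeIdealOf ⟨x, hx⟩).asIdeal.primeCompl
    (X.presheaf.stalk x) (QCoh.germLin N hx))
  refine ⟨hb'.equiv, fun m => ?_⟩
  rw [IsBaseChange.equiv_tmul, one_smul]
  show QCoh.germLin N hx (l m) = _
  rw [hl]
  rfl

/-- Injectivity with flat cokernel at a point, on sections. -/
theorem goodAt_iff (f : X ⟶ Y) (q : X ⟶ X₀) {F₀ G₀ : X₀.Modules} (hF₀ : Coh.IsQCoh F₀) (hG₀ : Coh.IsQCoh G₀)
    (h₀ : F₀ ⟶ G₀) {U₀ : X₀.Opens} (hU₀ : IsAffineOpen U₀) {U : X.Opens} (hU : IsAffineOpen U)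
    (hle : U ≤ q ⁻¹ᵁ U₀) {V : Y.Opens} (hV : IsAffineOpen V) (hUV : U ≤ f ⁻¹ᵁ V) {x : X} (hx : x ∈ U) :
    letI : Algebra Γ(X₀, U₀) (X.presheaf.stalk x) := (q.appLE U₀ U hle ≫ X.presheaf.germ U x hx).hom.toAlgebra
    letI : Algebra Γ(Y, V) (X.presheaf.stalk x) := (f.appLE V U hUV ≫ X.presheaf.germ U x hx).hom.toAlgebra
    (Function.Injective (stalkLin ((Scheme.Modules.pullback q).map h₀) x) ∧
        FlatMod.IsFlatOverAt f (cokernel ((Scheme.Modules.pullback q).map h₀)) x) ↔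
      GoodAt (QCoh.appLin h₀ U₀) Γ(cokernel h₀, U₀) Γ(Y, V) (X.presheaf.stalk x) := by
  letI : Algebra Γ(X₀, U₀) (X.presheaf.stalk x) := (q.appLE U₀ U hle ≫ X.presheaf.germ U x hx).hom.toAlgebra
  letI : Algebra Γ(Y, V) (X.presheaf.stalk x) := (f.appLE V U hUV ≫ X.presheaf.germ U x hx).hom.toAlgebra
  obtain ⟨eF, heF⟩ := exists_stalk_equiv q hF₀ hU₀ hU hle hx
  obtain ⟨eG, heG⟩ := exists_stalk_equiv q hG₀ hU₀ hU hle hx
  obtain ⟨eC, -⟩ := exists_stalk_equiv q (QCoh.isQCoh_cokernel hF₀ hG₀ h₀) hU₀ hU hle hx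
  let u := (Scheme.Modules.pullback q).map h₀
  refine and_congr ?_ ?_
  · have hcomm : ∀ z, stalkLin u x (eF z) = eG ((QCoh.appLin h₀ U₀).baseChange (X.presheaf.stalk x) z) := by
      intro z
      induction z using TensorProduct.induction_on with
      | zero => simp
      | tmul a m =>
        have h1 : stalkLin u x (eF (1 ⊗ₜ m)) = eG (1 ⊗ₜ (QCoh.appLin h₀ U₀ m)) := by
          rw [heF, heG]
          refine (stalkLin_germ u hx _).trans ?_
          exact congrArg _ (ExistEasy.pullSec_natural q h₀ hle m)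
        rw [← mul_one a, ← smul_eq_mul, ← TensorProduct.smul_tmul', map_smul, map_smul, map_smul, map_smul, h1,
          LinearMap.baseChange_tmul]
      | add a b ha hb => simp only [map_add, ha, hb]
    constructor
    · intro h a b hab
      exact eF.injective (h (by rw [hcomm, hcomm, hab]))
    · intro h a b hab
      obtain ⟨a, rfl⟩ := eF.surjective a
      obtain ⟨b, rfl⟩ := eF.surjective b
      rw [hcomm, hcomm] at hab
      exact congrArg _ (h (eG.injective hab))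
  · haveI := LimMod.pullback_preservesColimits q
    let i := PreservesCokernel.iso (Scheme.Modules.pullback q) h₀
    rw [show FlatMod.IsFlatOverAt f (cokernel u) x ↔ FlatMod.IsFlatOverAt f
      ((Scheme.Modules.pullback q).obj (cokernel h₀)) x from
        ⟨GrFlat5.isFlatOverAt_of_iso f i.symm x, GrFlat5.isFlatOverAt_of_iso f i x⟩,
      QCoh.isFlatOverAt_iff f hV hUV hx]
    letI : Module Γ(Y, V) (((Scheme.Modules.pullback q).obj (cokernel h₀)).presheaf.stalk x) :=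
      Module.compHom _ (f.appLE V U hUV ≫ X.presheaf.germ U x hx).hom
    haveI : IsScalarTower Γ(Y, V) (X.presheaf.stalk x)
        (((Scheme.Modules.pullback q).obj (cokernel h₀)).presheaf.stalk x) := .of_algebraMap_smul fun _ _ => rfl
    exact ⟨fun _ => Module.Flat.of_linearEquiv (eC.restrictScalars Γ(Y, V)),
      fun _ => Module.Flat.of_linearEquiv (eC.restrictScalars Γ(Y, V)).symm⟩

/-- Sections over an affine piece of a cartesian square form a pushout. -/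
theorem isPushout_sections {X' S T : Scheme.{u}} {g' : X' ⟶ X} {u' : X' ⟶ T} {u : X ⟶ S} {h : T ⟶ S}
    (hc : IsPullback g' u' u h) {V : S.Opens} (hV : IsAffineOpen V) {U : X.Opens} (hU : IsAffineOpen U)
    (hUV : U ≤ u ⁻¹ᵁ V) {O : T.Opens} (hO : IsAffineOpen O) (hOV : O ≤ h ⁻¹ᵁ V) {W : X'.Opens}
    (hW : W = g' ⁻¹ᵁ U ⊓ u' ⁻¹ᵁ O) (h₁ : W ≤ g' ⁻¹ᵁ U) (h₂ : W ≤ u' ⁻¹ᵁ O) :
    IsAffineOpen W ∧
    (letI : Algebra Γ(S, V) Γ(X, U) := (u.appLE V U hUV).hom.toAlgebra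
     letI : Algebra Γ(S, V) Γ(T, O) := (h.appLE V O hOV).hom.toAlgebra
     letI : Algebra Γ(X, U) Γ(X', W) := (g'.appLE U W h₁).hom.toAlgebra
     letI : Algebra Γ(T, O) Γ(X', W) := (u'.appLE O W h₂).hom.toAlgebra
     letI : Algebra Γ(S, V) Γ(X', W) := (u.appLE V U hUV ≫ g'.appLE U W h₁).hom.toAlgebra
     ∃ (_ : IsScalarTower Γ(S, V) Γ(X, U) Γ(X', W)) (_ : IsScalarTower Γ(S, V) Γ(T, O) Γ(X', W)),
       Algebra.IsPushout Γ(S, V) Γ(T, O) Γ(X, U) Γ(X', W)) := by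
  subst hW
  have hW : IsAffineOpen (g' ⁻¹ᵁ U ⊓ u' ⁻¹ᵁ O) := by
    haveI : IsAffine _ := hV
    haveI : IsAffine _ := hO
    haveI : IsAffine _ := hU
    exact .of_isIso (Scheme.Hom.isPullback_resLE hc hOV hUV (UY := g' ⁻¹ᵁ U ⊓ u' ⁻¹ᵁ O) rfl).isoPullback.hom
  refine ⟨hW, ?_⟩
  have hpo := (isIso_pushoutSection_iff hc hOV hUV (UY := g' ⁻¹ᵁ U ⊓ u' ⁻¹ᵁ O) rfl).mp
    (isIso_pushoutSection_of_isAffineOpen hc hOV hUV rfl hV hO hU)
  letI : Algebra Γ(S, V) Γ(X, U) := (u.appLE V U hUV).hom.toAlgebra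
  letI : Algebra Γ(S, V) Γ(T, O) := (h.appLE V O hOV).hom.toAlgebra
  letI : Algebra Γ(X, U) Γ(X', g' ⁻¹ᵁ U ⊓ u' ⁻¹ᵁ O) := (g'.appLE U _ h₁).hom.toAlgebra
  letI : Algebra Γ(T, O) Γ(X', g' ⁻¹ᵁ U ⊓ u' ⁻¹ᵁ O) := (u'.appLE O _ h₂).hom.toAlgebra
  letI : Algebra Γ(S, V) Γ(X', g' ⁻¹ᵁ U ⊓ u' ⁻¹ᵁ O) := (u.appLE V U hUV ≫ g'.appLE U _ h₁).hom.toAlgebra
  haveI i1 : IsScalarTower Γ(S, V) Γ(X, U) Γ(X', g' ⁻¹ᵁ U ⊓ u' ⁻¹ᵁ O) := .of_algebraMap_eq fun _ => rfl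
  haveI i2 : IsScalarTower Γ(S, V) Γ(T, O) Γ(X', g' ⁻¹ᵁ U ⊓ u' ⁻¹ᵁ O) :=
    .of_algebraMap_eq fun r => congr($(hpo.w).hom r)
  exact ⟨i1, i2, CommRingCat.isPushout_iff_isPushout.mp hpo.flip⟩

section Stage

variable {I : Type u} [SmallCategory I] (D : I ⥤ Scheme.{u}) (c : Cone D) (hc : IsLimit c) [IsCofiltered I]
  [∀ (i j : I) (f : i ⟶ j), IsAffineHom (D.map f)]

include hc in
/-- A map of a finitely presented algebra to the functions on the limit of an affine open factors through a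
stage. -/
theorem exists_algebra_stage {i : I} {U : (D.obj i).Opens} (hU : IsAffineOpen U) {A₀ T : Type u} [CommRing A₀]
    [CommRing T] [Algebra A₀ T] [Algebra.FinitePresentation A₀ T] (ρ : A₀ →+* Γ(D.obj i, U))
    (σ : T →+* Γ(c.pt, c.π.app i ⁻¹ᵁ U))
    (hσ : ∀ a, σ (algebraMap A₀ T a) = (c.π.app i).appLE U _ le_rfl (ρ a)) :
    ∃ (j : I) (φ : j ⟶ i) (σj : T →+* Γ(D.obj j, D.map φ ⁻¹ᵁ U)),
      (∀ a, σj (algebraMap A₀ T a) = (D.map φ).appLE U _ le_rfl (ρ a)) ∧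
      ∀ t, (c.π.app j).appLE (D.map φ ⁻¹ᵁ U) (c.π.app i ⁻¹ᵁ U) (LimMod.lim_le D c φ U) (σj t) = σ t := by
  classical
  obtain ⟨n, π, hπ, ⟨R, hR⟩⟩ := Algebra.FinitePresentation.out (R := A₀) (A := T)
  have htr : ∀ {j k : I} (φ : j ⟶ i) (ψ : k ⟶ j) (t : Γ(D.obj j, D.map φ ⁻¹ᵁ U)),
      (c.π.app k).appLE _ (c.π.app i ⁻¹ᵁ U) (LimMod.lim_le D c (ψ ≫ φ) U)
        ((D.map ψ).appLE (D.map φ ⁻¹ᵁ U) (D.map (ψ ≫ φ) ⁻¹ᵁ U) (LimMod.stage_le D ψ φ U) t) =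
      (c.π.app j).appLE (D.map φ ⁻¹ᵁ U) (c.π.app i ⁻¹ᵁ U) (LimMod.lim_le D c φ U) t := by
    intro j k φ ψ t
    rw [← CommRingCat.comp_apply, Scheme.Hom.appLE_comp_appLE]
    simp only [c.w]
    rfl
  have hcomp : ∀ {j k : I} (φ : j ⟶ i) (ψ : k ⟶ j) (a : A₀),
      (D.map ψ).appLE (D.map φ ⁻¹ᵁ U) (D.map (ψ ≫ φ) ⁻¹ᵁ U) (LimMod.stage_le D ψ φ U)
        ((D.map φ).appLE U (D.map φ ⁻¹ᵁ U) le_rfl (ρ a)) = (D.map (ψ ≫ φ)).appLE U _ le_rfl (ρ a) := by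
    intro j k φ ψ a
    rw [← CommRingCat.comp_apply, Scheme.Hom.appLE_comp_appLE]
    simp only [← D.map_comp]
  -- the generators
  have hgen : ∀ s : Finset (Fin n), ∃ (j : I) (φ : j ⟶ i) (g : Fin n → Γ(D.obj j, D.map φ ⁻¹ᵁ U)), ∀ k ∈ s,
      (c.π.app j).appLE _ (c.π.app i ⁻¹ᵁ U) (LimMod.lim_le D c φ U) (g k) = σ (π (MvPolynomial.X k)) := by
    intro s
    induction s using Finset.induction with
    | empty => exact ⟨i, 𝟙 i, fun _ => 0, by simp⟩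
    | insert a s ha ih =>
      obtain ⟨j, φ, g, hg⟩ := ih
      obtain ⟨j', φ', t, ht⟩ := LimMod.exists_ring_lift D c hc hU (σ (π (MvPolynomial.X a)))
      obtain ⟨l, p, p', hp⟩ := LimMod.exists_common φ φ'
      let ρ₁ := (D.map p).appLE (D.map φ ⁻¹ᵁ U) (D.map (p ≫ φ) ⁻¹ᵁ U) (LimMod.stage_le D p φ U)
      let ρ₂ := (D.map p').appLE (D.map φ' ⁻¹ᵁ U) (D.map (p ≫ φ) ⁻¹ᵁ U) (hp ▸ LimMod.stage_le D p' φ' U)
      refine ⟨l, p ≫ φ, fun k => if k = a then ρ₂ t else ρ₁ (g k), fun k hk => ?_⟩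
      by_cases hka : k = a
      · subst hka
        beta_reduce
        rw [if_pos rfl, ← ht]
        rw [← CommRingCat.comp_apply, Scheme.Hom.appLE_comp_appLE]
        simp only [c.w]
        rfl
      · beta_reduce
        rw [if_neg hka, htr]
        exact hg k ((Finset.mem_insert.1 hk).resolve_left hka)
  obtain ⟨j, φ, g, hg⟩ := hgen Finset.univ
  let θ : MvPolynomial (Fin n) A₀ →+* Γ(D.obj j, D.map φ ⁻¹ᵁ U) :=
    MvPolynomial.eval₂Hom (((D.map φ).appLE U _ le_rfl).hom.comp ρ) g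
  have hθ : ∀ p, (c.π.app j).appLE _ (c.π.app i ⁻¹ᵁ U) (LimMod.lim_le D c φ U) (θ p) = σ (π p) := by
    intro p
    refine RingHom.congr_fun (f := ((c.π.app j).appLE _ (c.π.app i ⁻¹ᵁ U) (LimMod.lim_le D c φ U)).hom.comp θ)
      (g := σ.comp π.toRingHom) (MvPolynomial.ringHom_ext (fun a => ?_) fun k => ?_) p
    · show (c.π.app j).appLE _ _ _ (θ (MvPolynomial.C a)) = σ (π (MvPolynomial.C a))
      rw [MvPolynomial.eval₂Hom_C, RingHom.comp_apply, ← CommRingCat.comp_apply, Scheme.Hom.appLE_comp_appLE,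
        show π (MvPolynomial.C a) = algebraMap A₀ T a from π.commutes a, hσ]
      simp only [c.w]
      rfl
    · show (c.π.app j).appLE _ _ _ (θ (MvPolynomial.X k)) = σ (π (MvPolynomial.X k))
      rw [MvPolynomial.eval₂Hom_X']
      exact hg k (Finset.mem_univ k)
  -- the relations
  have hrel : ∀ s : Finset (MvPolynomial (Fin n) A₀), (∀ r ∈ s, π r = 0) → ∃ (k : I) (ψ : k ⟶ j), ∀ r ∈ s,
      (D.map ψ).appLE (D.map φ ⁻¹ᵁ U) (D.map (ψ ≫ φ) ⁻¹ᵁ U) (LimMod.stage_le D ψ φ U) (θ r) = 0 := by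
    intro s
    induction s using Finset.induction with
    | empty => exact fun _ => ⟨j, 𝟙 j, by simp⟩
    | insert r s hr ih =>
      intro hs
      obtain ⟨k, ψ, hk⟩ := ih fun r' hr' => hs r' (Finset.mem_insert_of_mem hr')
      obtain ⟨k', ψ', hk'⟩ := LimMod.exists_ring_eq_zero D c hc hU φ (θ r)
        (by rw [hθ, hs r (Finset.mem_insert_self _ _), map_zero])
      obtain ⟨l, p, p', hp⟩ := IsCofiltered.cospan ψ ψ'
      refine ⟨l, p ≫ ψ, fun r' hr' => ?_⟩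
      rcases Finset.mem_insert.1 hr' with rfl | hr'
      · have h1 := congrArg ((D.map p').appLE (D.map (ψ' ≫ φ) ⁻¹ᵁ U) (D.map ((p ≫ ψ) ≫ φ) ⁻¹ᵁ U)
          (by rw [← Scheme.Hom.comp_preimage, ← D.map_comp, hp, Category.assoc])) hk'
        rw [map_zero, ← CommRingCat.comp_apply, Scheme.Hom.appLE_comp_appLE] at h1
        simp only [← D.map_comp, ← hp] at h1
        exact h1
      · have h1 := congrArg ((D.map p).appLE (D.map (ψ ≫ φ) ⁻¹ᵁ U) (D.map ((p ≫ ψ) ≫ φ) ⁻¹ᵁ U)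
          (by rw [← Scheme.Hom.comp_preimage, ← D.map_comp, Category.assoc])) (hk r' hr')
        rw [map_zero, ← CommRingCat.comp_apply, Scheme.Hom.appLE_comp_appLE] at h1
        simp only [← D.map_comp] at h1
        exact h1
  obtain ⟨k, ψ, hk⟩ := hrel R fun r hr => hR.le (Submodule.subset_span hr)
  let θk : MvPolynomial (Fin n) A₀ →+* Γ(D.obj k, D.map (ψ ≫ φ) ⁻¹ᵁ U) :=
    ((D.map ψ).appLE (D.map φ ⁻¹ᵁ U) (D.map (ψ ≫ φ) ⁻¹ᵁ U) (LimMod.stage_le D ψ φ U)).hom.comp θ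
  have hker : RingHom.ker π.toRingHom ≤ RingHom.ker θk := by
    rw [show RingHom.ker π.toRingHom = Ideal.span (R : Set (MvPolynomial (Fin n) A₀)) from hR.symm]
    exact Ideal.span_le.2 fun r hr => hk r hr
  let σk : T →+* Γ(D.obj k, D.map (ψ ≫ φ) ⁻¹ᵁ U) := RingHom.liftOfSurjective π.toRingHom hπ ⟨θk, hker⟩
  have hσk : ∀ p, σk (π p) = θk p := fun p => RingHom.liftOfRightInverse_comp_apply _ _ _ _ p
  refine ⟨k, ψ ≫ φ, σk, fun a => ?_, fun t => ?_⟩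
  · rw [← π.commutes, hσk]
    show (D.map ψ).appLE _ _ _ (θ (MvPolynomial.C a)) = _
    rw [MvPolynomial.eval₂Hom_C]
    exact hcomp φ ψ a
  · obtain ⟨p, rfl⟩ := hπ t
    rw [hσk]
    show (c.π.app k).appLE _ _ _ ((D.map ψ).appLE _ _ _ (θ p)) = _
    rw [htr, hθ]

end Stage

end Groth.Agent.FibFlatMod
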